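import Cfsg.Agent.S0205
import Cfsg.Agent.Lib.FTCons.CoreClosure
import Cfsg.Agent.Lib.Local.BaumannBlockBasic
import Cfsg.Agent.Lib.Invol.Basic
import Cfsg.Agent.Lib.AbTwo.Basic
import Cfsg.Prelude.Def_CaseTheorems

/-!
# Groups with solvable involution centralizers: constraint and characteristic two type
-/

set_option autoImplicit false
set_option linter.style.haveILetI false

namespace Cfsg.Lib.Local.ZN

open Subgroup Cfsg Cfsg.Lib

universe u

variable {G : Type u} [Group G] [Finite G]

theorem exists_central_involution {T : Subgroup G} (hT : IsPGroup 2 T) (hT1 : T ≠ ⊥) :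
    ∃ t ∈ T, orderOf t = 2 ∧ T ≤ centralizer ({t} : Set G) := by
  haveI : Fact (Nat.Prime 2) := ⟨Nat.prime_two⟩
  haveI : Nontrivial T := (nontrivial_iff_ne_bot T).2 hT1
  haveI := hT.center_nontrivial
  have hdvd : 2 ∣ Nat.card (center T) := by
    obtain ⟨n, hn, e⟩ := (hT.to_subgroup (center T)).nontrivial_iff_card.1 inferInstance
    exact e ▸ dvd_pow_self 2 hn.ne'
  obtain ⟨c, hc⟩ := exists_prime_orderOf_dvd_card' (G := center T) 2 hdvd
  refine ⟨((c : T) : G), (c : T).2, by rw [orderOf_coe, orderOf_coe]; exact hc, fun x hx => ?_⟩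
  exact mem_centralizer_singleton_iff.2 (congrArg Subtype.val (mem_center_iff.1 c.2 ⟨x, hx⟩))

omit [Finite G] in
theorem isPGroup_zpowers_involution {t : G} (ht : t * t = 1) : IsPGroup 2 ↥(zpowers t) :=
  fun x => ⟨1, Subtype.ext (by
    obtain ⟨k, hk⟩ := mem_zpowers_iff.1 x.2
    show (x : G) ^ (2 ^ 1) = 1
    rw [← hk, pow_one, pow_two, ← (Commute.refl t).mul_zpow, ht, one_zpow])⟩

/-- A group with trivial odd core in which the centralizer of a normal 2-subgroup is solvable is
2-constrained. -/
theorem centralizer_pCore_le_of_solvable (hO : pPrimeCore 2 G = ⊥) {T : Subgroup G} [T.Normal]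
    (hT : IsPGroup 2 T) (hsol : Group.IsSolvable ↥(centralizer (T : Set G))) :
    centralizer (pCore 2 G : Set G) ≤ pCore 2 G := by
  haveI : Fact (Nat.Prime 2) := ⟨Nat.prime_two⟩
  set O := pCore 2 G with hOdef
  set D := centralizer (O : Set G) with hD
  haveI := hsol
  haveI : Group.IsSolvable ↥D := Group.isSolvable_of_isSolvable_injective
    (f := Subgroup.inclusion (Subgroup.centralizer_le (SetLike.coe_subset_coe.2 (Core.le_pCore' ‹T.Normal› hT))))
    (Subgroup.inclusion_injective _)
  haveI : Group.IsSolvable ↥O := by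
    haveI := (Core.pCore_isPGroup 2 G).isNilpotent
    infer_instance
  set J := D ⊔ O with hJ
  haveI hJn : J.Normal := by rw [hJ]; infer_instance
  haveI : Group.IsSolvable ↥J := AbTwo.isSolvable_sup (W := D) (N := O) le_normalizer_of_normal
  have hJO : pPrimeCore 2 ↥J = ⊥ := by
    have h1 : (pPrimeCore 2 ↥J).map J.subtype ≤ pPrimeCore 2 G :=
      Core.le_pPrimeCore' (Core.normal_map_char_of_normal _) (by
        rw [card_map_of_injective J.subtype_injective]
        exact Core.pPrimeCore_coprime 2 _)
    rw [hO, le_bot_iff] at h1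
    exact (map_eq_bot_iff_of_injective _ J.subtype_injective).1 h1
  have hh := Core.centralizer_pCore_le_of_isPSolvable (p := 2) (Core.isPSolvable_of_isSolvable) hJO
  intro x hx
  have hxJ : x ∈ J := mem_sup_left hx
  have h2 : (pCore 2 ↥J).map J.subtype ≤ O :=
    Core.le_pCore' (Core.normal_map_char_of_normal _) ((Core.pCore_isPGroup 2 _).map _)
  exact h2 ⟨⟨x, hxJ⟩, hh (mem_centralizer_iff.2 fun y hy =>
    Subtype.ext (mem_centralizer_iff.1 hx (y : G) (h2 ⟨y, hy, rfl⟩))), rfl⟩

variable (hC : ∀ t : G, orderOf t = 2 → Group.IsSolvable ↥(centralizer ({t} : Set G)))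
include hC

theorem isSolvable_centralizer {T : Subgroup G} (hT : IsPGroup 2 T) (hT1 : T ≠ ⊥) :
    Group.IsSolvable ↥(centralizer (T : Set G)) := by
  obtain ⟨t, htT, ht2, -⟩ := exists_central_involution hT hT1
  haveI := hC t ht2
  exact Group.isSolvable_of_isSolvable_injective
    (f := Subgroup.inclusion (centralizer_le (Set.singleton_subset_iff.2 htT))) (Subgroup.inclusion_injective _)

/-- Every 2-local subgroup is 2-constrained. -/
theorem constrained_normalizer {T : Subgroup G} (hT : IsPGroup 2 T) (hT1 : T ≠ ⊥) :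
    IsPConstrained 2 ↥(normalizer (T : Set G)) := by
  haveI : Fact (Nat.Prime 2) := ⟨Nat.prime_two⟩
  set N := normalizer (T : Set G) with hN
  refine Sig.isPConstrained_iff.2 ?_
  set f := QuotientGroup.mk' (pPrimeCore 2 ↥N) with hf
  set T' := T.subgroupOf N with hT'
  haveI : T'.Normal := normal_in_normalizer
  haveI : (T'.map f).Normal := Normal.map inferInstance f (QuotientGroup.mk'_surjective _)
  refine centralizer_pCore_le_of_solvable Core.pPrimeCore_quotient_eq_bot (T := T'.map f)
    (hT.comap_subtype.map f) ?_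
  have hT'p : IsPGroup 2 ↥T' := hT.comap_subtype
  rw [hf, Sig.centralizer_map_mk' _ (Core.pPrimeCore_coprime 2 _) hT'p]
  haveI := isSolvable_centralizer hC hT hT1
  haveI : Group.IsSolvable ↥(centralizer (T' : Set ↥N)) := by
    refine Group.isSolvable_of_isSolvable_injective
      (f := (((N.subtype).comp (centralizer (T' : Set ↥N)).subtype).codRestrict (centralizer (T : Set G))
        fun x => mem_centralizer_iff.2 fun y hy => ?_)) ?_
    · exact congrArg Subtype.val (mem_centralizer_iff.1 x.2 ⟨y, le_normalizer hy⟩ (mem_subgroupOf.2 hy))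
    · intro a b e
      exact Subtype.ext (Subtype.ext (congrArg (fun z : ↥(centralizer (T : Set G)) => (z : G)) e))
  exact Group.isSolvable_of_surjective (f := MonoidHom.subgroupMap (QuotientGroup.mk' (pPrimeCore 2 ↥N)) _)
    (MonoidHom.subgroupMap_surjective _ _)

/-- If all involution centralizers have trivial odd core, the group has characteristic two type. -/
theorem charTwoType (heven : Even (Nat.card G))
    (hθ : ∀ t : G, orderOf t = 2 → centralizerPPrimeCore 2 t = ⊥) : IsCharacteristicTwoType G := by
  haveI : Fact (Nat.Prime 2) := ⟨Nat.prime_two⟩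
  refine ⟨heven, fun T hT hT1 => ?_⟩
  set N := normalizer (T : Set G) with hN
  haveI : (T.subgroupOf N).Normal := normal_in_normalizer
  have hO : pPrimeCore 2 ↥N = ⊥ := by
    obtain ⟨t, htT, ht2, htC⟩ := exists_central_involution hT hT1
    set Q := pPrimeCore 2 ↥N with hQ
    have hQT : ∀ q ∈ Q, ∀ s ∈ T.subgroupOf N, Commute q s := fun q hq s hs =>
      commute_of_normal_of_disjoint Q (T.subgroupOf N) inferInstance inferInstance
        (disjoint_iff.2 (inf_eq_bot_of_coprime ((IsPGroup.iff_card.1 (show IsPGroup 2 ↥(T.subgroupOf N) from hT.comap_subtype)).elim fun k hk => by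
          rw [hk]
          exact (Core.pPrimeCore_coprime 2 _).pow_right k))) q s hq hs
    have hQC : Q.map N.subtype ≤ centralizer ({t} : Set G) := by
      rintro _ ⟨q, hq, rfl⟩
      exact mem_centralizer_singleton_iff.2
        (congrArg Subtype.val (hQT q hq ⟨t, le_normalizer htT⟩ (mem_subgroupOf.2 htT)).eq)
    set C := centralizer ({t} : Set G) with hCdef
    haveI := hC t ht2
    have hcop : (Nat.card ↥((Q.map N.subtype).subgroupOf C)).Coprime 2 := by
      rw [Nat.card_congr (subgroupOfEquivOfLe hQC).toEquiv, card_map_of_injective N.subtype_injective]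
      exact Core.pPrimeCore_coprime 2 _
    have hle := Sig.le_pPrimeCore_of_centralizes (G := ↥C) (p := 2)
      (Sig.isPConstrained_of_isPSolvable Core.isPSolvable_of_isSolvable) (P := T.subgroupOf C)
      hT.comap_subtype hcop ?_ ?_
    · have h2 : Q.map N.subtype ≤ ⊥ := by
        rw [← hθ t ht2]
        intro x hx
        exact ⟨⟨x, hQC hx⟩, hle (mem_subgroupOf.2 hx), rfl⟩
      exact (map_eq_bot_iff_of_injective _ N.subtype_injective).1 (le_bot_iff.1 h2)
    · intro x hx
      obtain ⟨q, hq, e⟩ := mem_subgroupOf.1 hx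
      refine mem_centralizer_iff.2 fun s hs => Subtype.ext ?_
      have hs' : (s : G) ∈ T := mem_subgroupOf.1 hs
      show (s : G) * x = x * s
      rw [← show (q : G) = x from e]
      exact (congrArg Subtype.val (hQT q hq ⟨s, le_normalizer hs'⟩ (mem_subgroupOf.2 hs')).eq).symm
    · intro y hy
      have hyN : (y : G) ∈ N := centralizer_le_normalizer _ (mem_centralizer_iff.2 fun s hs =>
        congrArg Subtype.val (mem_centralizer_iff.1 hy ⟨s, htC hs⟩ (mem_subgroupOf.2 hs)))
      refine mem_normalizer_fintype fun x hx => ?_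
      obtain ⟨q, hq, e⟩ := mem_subgroupOf.1 hx
      refine mem_subgroupOf.2 ⟨⟨y, hyN⟩ * q * ⟨y, hyN⟩⁻¹,
        (inferInstance : Q.Normal).conj_mem q hq _, ?_⟩
      show (y : G) * q * (y : G)⁻¹ = _
      rw [show (q : G) = x from e]
      rfl
  exact centralizer_pCore_le_of_solvable hO (T := T.subgroupOf N) hT.comap_subtype (by
    haveI := isSolvable_centralizer hC hT hT1
    refine Group.isSolvable_of_isSolvable_injective
      (f := (((N.subtype).comp (centralizer (T.subgroupOf N : Set ↥N)).subtype).codRestrict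
        (centralizer (T : Set G)) fun x => mem_centralizer_iff.2 fun y hy => ?_)) ?_
    · exact congrArg Subtype.val (mem_centralizer_iff.1 x.2 ⟨y, le_normalizer hy⟩ (mem_subgroupOf.2 hy))
    · intro a b e
      exact Subtype.ext (Subtype.ext (congrArg (fun z : ↥(centralizer (T : Set G)) => (z : G)) e)))

end Cfsg.Lib.Local.ZN
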