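import Cfsg.Agent.Lib.Local.ZN.Signal
import Cfsg.Agent.Lib.Invol.Embedded
import Cfsg.Agent.Lib.Fusion.Basic
import Cfsg.Agent.Lib.PGroup.Basic
import Cfsg.Agent.S0111
import Cfsg.Prelude.Def_Involutions

/-!
# Strong embedding and fusion tools for the reduction to characteristic two type
-/

set_option autoImplicit false
set_option linter.style.haveILetI false

namespace Cfsg.Lib.Local.ZN

open Subgroup Cfsg Cfsg.Lib

universe u

variable {G : Type u} [Group G] [Finite G]

/-- `Ω₁(Z(S))`. -/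
abbrev zee (S : Sylow 2 G) : Subgroup G :=
  omegaOne 2 ((S : Subgroup G) ⊓ centralizer ((S : Subgroup G) : Set G))

theorem zee_le (S : Sylow 2 G) : zee S ≤ (S : Subgroup G) := BaumannBlock.omegaOneCenter_le 2 _

theorem zee_commute {S : Sylow 2 G} {z x : G} (hz : z ∈ zee S) (hx : x ∈ (S : Subgroup G)) :
    Commute z x :=
  BaumannBlock.omegaOneCenter_commute hz hx

theorem zee_elementary (S : Sylow 2 G) : IsElementaryAbelian 2 (zee S) :=
  ⟨⟨⟨fun x y => Subtype.ext (zee_commute x.2 (zee_le S y.2)).eq⟩⟩,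
    fun _ hx => BaumannBlock.omegaOneCenter_pow hx⟩

theorem mem_zee {S : Sylow 2 G} {z : G} (hzS : z ∈ (S : Subgroup G)) (hz : z * z = 1)
    (h : ∀ x ∈ (S : Subgroup G), x * z = z * x) : z ∈ zee S :=
  subset_closure ⟨⟨hzS, mem_centralizer_iff.2 fun x hx => h x hx⟩, by rwa [pow_two]⟩

theorem zee_sq {S : Sylow 2 G} {z : G} (hz : z ∈ zee S) : z * z = 1 := by
  rw [← pow_two]
  exact (zee_elementary S).2 z hz

theorem sylow_le_centralizer_zee {S : Sylow 2 G} {z : G} (hz : z ∈ zee S) :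
    (S : Subgroup G) ≤ centralizer ({z} : Set G) := fun _ hx =>
  mem_centralizer_singleton_iff.2 (zee_commute hz hx).eq.symm

/-! ### elementary tools -/

theorem orderOf_eq_two_iff_sq {t : G} : orderOf t = 2 ↔ t * t = 1 ∧ t ≠ 1 :=
  ⟨fun h => ⟨Invol.inv_mul_self h, Invol.ne_one h⟩, fun h => Invol.orderOf_eq_two_of h.2 h.1⟩

theorem relIndex_le_two {K B : Subgroup G}
    (h : ∀ x ∈ B, ∀ y ∈ B, x ∉ K → y ∉ K → x * y ∈ K) : K.relIndex B ≤ 2 := by
  by_cases h1 : B ≤ K
  · rw [relIndex_eq_one.2 h1]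
    norm_num
  · obtain ⟨a, ha, haK⟩ := SetLike.not_le_iff_exists.1 h1
    refine le_of_eq (relIndex_eq_two_iff_exists_notMem_and.2 ⟨a, ha, haK, fun b hb => ?_⟩)
    by_cases hbK : b ∈ K
    · exact Or.inr hbK
    · exact Or.inl (h b hb a ha hbK haK)

theorem mul_mem_of_relIndex_le_two {K B : Subgroup G} (h : K.relIndex B ≤ 2) :
    ∀ x ∈ B, ∀ y ∈ B, x ∉ K → y ∉ K → x * y ∈ K := by
  intro x hx y hy hxK hyK
  rcases Nat.lt_or_ge (K.relIndex B) 2 with h2 | h2
  · have : K.relIndex B ≠ 0 := index_ne_zero_of_finite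
    exact absurd (relIndex_eq_one.1 (show K.relIndex B = 1 by omega) hx) hxK
  · have h3 : (K.subgroupOf B).index = 2 := le_antisymm h h2
    exact (mem_subgroupOf (h := (⟨x, hx⟩ * ⟨y, hy⟩ : B))).1
      ((mul_mem_iff_of_index_two h3).2 (iff_of_false (fun e => hxK (mem_subgroupOf.1 e))
        fun e => hyK (mem_subgroupOf.1 e)))

/-- A cyclic subgroup has at most one involution. -/
theorem involution_unique {A : Subgroup G} [IsCyclic A] {x y : G} (hx : x ∈ A) (hy : y ∈ A)
    (hx2 : orderOf x = 2) (hy2 : orderOf y = 2) : x = y := by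
  classical
  haveI := Fintype.ofFinite ↥A
  by_contra hne
  have hc := IsCyclic.card_pow_eq_one_le (α := ↥A) (n := 2) (by norm_num)
  have hsub : ({1, ⟨x, hx⟩, ⟨y, hy⟩} : Finset ↥A) ⊆ Finset.univ.filter fun a => a ^ 2 = 1 := by
    intro a ha
    simp only [Finset.mem_insert, Finset.mem_singleton] at ha
    refine Finset.mem_filter.2 ⟨Finset.mem_univ _, Subtype.ext ?_⟩
    rw [SubgroupClass.coe_pow, pow_two]
    rcases ha with rfl | rfl | rfl
    · simp
    · exact Invol.inv_mul_self hx2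
    · exact Invol.inv_mul_self hy2
  have h3 : ({1, ⟨x, hx⟩, ⟨y, hy⟩} : Finset ↥A).card = 3 := by
    rw [Finset.card_insert_of_notMem, Finset.card_insert_of_notMem, Finset.card_singleton]
    · simpa using fun e => hne e
    · simp only [Finset.mem_insert, Finset.mem_singleton, not_or]
      exact ⟨fun e => Invol.ne_one hx2 (congrArg Subtype.val e).symm,
        fun e => Invol.ne_one hy2 (congrArg Subtype.val e).symm⟩
  have := Finset.card_le_card hsub
  omega

theorem mem_sylow_of_normalizer {S : Sylow 2 G} {P : Subgroup G} (hP : IsPGroup 2 P)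
    (h : P ≤ normalizer ((S : Subgroup G) : Set G)) : P ≤ (S : Subgroup G) :=
  calc P = P ⊓ normalizer ((S : Subgroup G) : Set G) := (inf_eq_left.2 h).symm
    _ = P ⊓ (S : Subgroup G) := hP.inf_normalizer_sylow S
    _ ≤ _ := inf_le_right

theorem conj_mem_sylow_of_normalizer {S : Sylow 2 G} {c y : G} (hc : c ∈ (S : Subgroup G))
    (h : y * c * y⁻¹ ∈ normalizer ((S : Subgroup G) : Set G)) : y * c * y⁻¹ ∈ (S : Subgroup G) := by
  refine mem_sylow_of_normalizer (P := (zpowers c).map (MulAut.conj y).toMonoidHom)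
    ((S.isPGroup'.to_le (zpowers_le.2 hc)).map _) ?_ (mem_map_of_mem _ (mem_zpowers c))
  rw [MonoidHom.map_zpowers, zpowers_le]
  exact h

theorem exists_conj_into_sylow (S : Sylow 2 G) {M P : Subgroup G} (hSM : (S : Subgroup G) ≤ M)
    (hPM : P ≤ M) (hP : IsPGroup 2 P) : ∃ m ∈ M, ∀ x ∈ P, m * x * m⁻¹ ∈ (S : Subgroup G) := by
  haveI : Fact (Nat.Prime 2) := ⟨Nat.prime_two⟩
  obtain ⟨m, hm⟩ := Invol.exists_conj_mem_sylow (S.subtype hSM) (hP.comap_subtype (K := M))
  exact ⟨m, m.2, fun x hx => hm ⟨x, hPM hx⟩ (mem_subgroupOf.2 hx)⟩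

theorem exists_conj_involution (S : Sylow 2 G) {M : Subgroup G} (hSM : (S : Subgroup G) ≤ M) {t : G}
    (ht : t ∈ M) (ht2 : t * t = 1) : ∃ m ∈ M, m * t * m⁻¹ ∈ (S : Subgroup G) := by
  obtain ⟨m, hm, h⟩ := exists_conj_into_sylow S hSM (zpowers_le.2 ht) (isPGroup_zpowers_involution ht2)
  exact ⟨m, hm, h t (mem_zpowers t)⟩

theorem centralizer_conj_mem {t x g : G} (hx : x ∈ centralizer ({g * t * g⁻¹} : Set G)) :
    g⁻¹ * x * g ∈ centralizer ({t} : Set G) := by
  rw [mem_centralizer_singleton_iff] at hx ⊢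
  calc g⁻¹ * x * g * t = g⁻¹ * (x * (g * t * g⁻¹)) * g := by group
    _ = g⁻¹ * (g * t * g⁻¹ * x) * g := by rw [hx]
    _ = _ := by group

theorem conj_mem_centralizer {t x g : G} (hx : x ∈ centralizer ({t} : Set G)) :
    g * x * g⁻¹ ∈ centralizer ({g * t * g⁻¹} : Set G) := by
  rw [mem_centralizer_singleton_iff] at hx ⊢
  calc g * x * g⁻¹ * (g * t * g⁻¹) = g * (x * t) * g⁻¹ := by group
    _ = g * (t * x) * g⁻¹ := by rw [hx]
    _ = _ := by group

/-- An element conjugating the Sylow subgroup into `M` lies in `M`. -/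
theorem mem_of_conj_sylow_le {S : Sylow 2 G} {M : Subgroup G} (hSM : (S : Subgroup G) ≤ M)
    (hNM : normalizer ((S : Subgroup G) : Set G) ≤ M) {y : G}
    (hy : ∀ a ∈ (S : Subgroup G), y * a * y⁻¹ ∈ M) : y ∈ M := by
  obtain ⟨m, hm, h⟩ := exists_conj_into_sylow S hSM
    (P := (S : Subgroup G).map (MulAut.conj y).toMonoidHom)
    (by rintro _ ⟨a, ha, rfl⟩; exact hy a ha) (S.isPGroup'.map _)
  have hn : m * y ∈ normalizer ((S : Subgroup G) : Set G) := by
    refine mem_normalizer_fintype fun a ha => ?_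
    have h' := h _ ⟨a, ha, rfl⟩
    show m * y * a * (m * y)⁻¹ ∈ (S : Subgroup G)
    rwa [show m * y * a * (m * y)⁻¹ = m * (MulAut.conj y).toMonoidHom a * m⁻¹ by simp [mul_assoc]]
  have := mul_mem (inv_mem hm) (hNM hn)
  rwa [inv_mul_cancel_left] at this

/-! ### the setting -/

/-- The hypotheses of the reduction theorem. -/
structure Setting (S : Sylow 2 G) : Prop where
  even : Even (Nat.card G)
  sol : ∀ t : G, orderOf t = 2 → Group.IsSolvable ↥(centralizer ({t} : Set G))
  zc : centralizer (zee S : Set G) ≤ normalizer ((S : Subgroup G) : Set G)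
  odd : pPrimeCore 2 G = ⊥
  two : pCore 2 G = ⊥

namespace Setting

variable {S : Sylow 2 G} (c : Setting S)
include c

omit c in
theorem relIndex_dvd_index_of_normal' : (S : Subgroup G).relIndex (pResidual 2 G) ∣ (S : Subgroup G).index := by
  haveI : Fact (Nat.Prime 2) := ⟨Nat.prime_two⟩
  haveI := Fusion.pResidual_normal 2 G
  set H := pResidual 2 G
  have h := Local.JComp.card_sup_mul_card_inf' (A := H) (B := (S : Subgroup G))
    (le_normalizer_of_normal)
  rw [sup_comm, Fusion.sylow_sup_pResidual S, card_top, ← (S : Subgroup G).card_mul_index,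
    ← Core.card_mul_relIndex (inf_le_right : (S : Subgroup G) ⊓ H ≤ H), inf_relIndex_right, inf_comm H] at h
  refine dvd_of_eq (Nat.eq_of_mul_eq_mul_left
    (Nat.mul_pos (Nat.card_pos (α := ↥(S : Subgroup G))) (Nat.card_pos (α := ↥((S : Subgroup G) ⊓ H)))) ?_).symm
  linarith

omit c in
theorem inf_relIndex : ¬ 2 ∣ ((S : Subgroup G) ⊓ pResidual 2 G).relIndex (pResidual 2 G) := by
  haveI : Fact (Nat.Prime 2) := ⟨Nat.prime_two⟩
  haveI := Fusion.pResidual_normal 2 G
  rw [inf_relIndex_right]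
  intro h
  refine S.not_dvd_index (h.trans ?_)
  exact relIndex_dvd_index_of_normal' (S := S)

theorem residual_inf_ne_bot : (S : Subgroup G) ⊓ pResidual 2 G ≠ ⊥ := by
  haveI : Fact (Nat.Prime 2) := ⟨Nat.prime_two⟩
  intro h
  have hodd : (Nat.card ↥(pResidual 2 G)).Coprime 2 := by
    have := Core.card_mul_relIndex (inf_le_right : (S : Subgroup G) ⊓ pResidual 2 G ≤ pResidual 2 G)
    rw [← this, h, card_bot, one_mul, Nat.coprime_comm, Nat.prime_two.coprime_iff_not_dvd]
    simpa [h] using inf_relIndex (S := S)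
  have hbot : pResidual 2 G = ⊥ :=
    le_bot_iff.1 (c.odd ▸ Core.le_pPrimeCore' (Fusion.pResidual_normal 2 G) hodd)
  have hS : (S : Subgroup G) = ⊤ := by
    have := Fusion.sylow_sup_pResidual S
    rwa [hbot, sup_bot_eq] at this
  have htop : (⊤ : Subgroup G) ≤ pCore 2 G := Core.le_pCore' inferInstance (hS ▸ S.isPGroup')
  rw [c.two, le_bot_iff] at htop
  have := c.even
  rw [← card_top, htop, card_bot] at this
  simp at this

theorem exists_z : ∃ z ∈ zee S, z ∈ pResidual 2 G ∧ orderOf z = 2 := by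
  haveI : Fact (Nat.Prime 2) := ⟨Nat.prime_two⟩
  haveI := Fusion.pResidual_normal 2 G
  set R := (pResidual 2 G).subgroupOf (S : Subgroup G) with hR
  have hne : R ≠ ⊥ := by
    intro h
    apply c.residual_inf_ne_bot
    rw [eq_bot_iff]
    intro x hx
    have : (⟨x, hx.1⟩ : ↥(S : Subgroup G)) ∈ R := mem_subgroupOf.2 hx.2
    rw [h, mem_bot] at this
    exact congrArg Subtype.val this
  have hne' := PGroup.inf_center_ne_bot S.isPGroup' hne
  obtain ⟨z, hz, hz2, -⟩ := exists_central_involution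
    (S.isPGroup'.to_subgroup (R ⊓ center ↥(S : Subgroup G))) hne'
  have ho : orderOf (z : G) = 2 := by rw [orderOf_coe]; exact hz2
  refine ⟨z, mem_zee z.2 (Invol.inv_mul_self ho) fun x hx => ?_, mem_subgroupOf.1 hz.1, ho⟩
  exact congrArg Subtype.val (mem_center_iff.1 hz.2 ⟨x, hx⟩)

omit c in
theorem transfer {Q : Subgroup G} (hQ : Q ≤ (S : Subgroup G) ⊓ pResidual 2 G)
    (h2 : Q.relIndex ((S : Subgroup G) ⊓ pResidual 2 G) ≤ 2) {t : G}
    (ht : t ∈ (S : Subgroup G) ⊓ pResidual 2 G) (ht2 : orderOf t = 2) :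
    ∃ h ∈ pResidual 2 G, h * t * h⁻¹ ∈ Q := by
  haveI : Fact (Nat.Prime 2) := ⟨Nat.prime_two⟩
  set H := pResidual 2 G with hH
  by_cases htQ : t ∈ Q
  · exact ⟨1, one_mem _, by simpa using htQ⟩
  have h2' : Q.relIndex ((S : Subgroup G) ⊓ H) = 2 := by
    have h1 : Q.relIndex ((S : Subgroup G) ⊓ H) ≠ 1 := fun e => htQ (relIndex_eq_one.1 e ht)
    have h0 : Q.relIndex ((S : Subgroup G) ⊓ H) ≠ 0 := index_ne_zero_of_finite
    omega
  have hp : IsPGroup 2 ↥(((S : Subgroup G) ⊓ H).subgroupOf H) := (S.isPGroup'.to_le inf_le_left).comap_subtype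
  let P : Sylow 2 ↥H := hp.toSylow inf_relIndex
  have hidx : (Q.subgroupOf H).relIndex (P : Subgroup ↥H) = 2 := by
    show (Q.subgroupOf H).relIndex (((S : Subgroup G) ⊓ H).subgroupOf H) = 2
    rw [relIndex_subgroupOf inf_le_right]
    exact h2'
  rcases Cfsg.Agent.S0111.result P (Q.subgroupOf H) (fun x hx => mem_subgroupOf.2 (hQ (mem_subgroupOf.1 hx)))
      hidx ⟨t, ht.2⟩ (by rwa [orderOf_mk]) (mem_subgroupOf.2 ht) (fun e => htQ (mem_subgroupOf.1 e)) with
    ⟨M, -, hM, -⟩ | ⟨g, hg⟩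
  · exfalso
    have hle : pResidual 2 ↥H ≤ M := by
      refine (closure_le _).2 fun g hg => ?_
      obtain ⟨m, hm⟩ := Nat.coprime_two_right.1 (show Nat.Coprime (orderOf g) 2 from hg)
      have e : (g * g) ^ (m + 1) = g := by
        rw [← pow_two, ← pow_mul, show 2 * (m + 1) = orderOf g + 1 by omega, pow_succ, pow_orderOf_eq_one, one_mul]
      exact e ▸ pow_mem (mul_self_mem_of_index_two hM g) _
    rw [Fusion.pResidual_pResidual, top_le_iff] at hle
    rw [hle, index_top] at hM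
    norm_num at hM
  · exact ⟨g, g.2, mem_subgroupOf.1 hg⟩

omit c in
/-- The strong embedding criterion. -/
theorem se_of {M : Subgroup G} (hM : M ≠ ⊤) (hSM : (S : Subgroup G) ≤ M) {z : G} (hz : z ∈ zee S)
    (hzH : z ∈ pResidual 2 G) (hz2 : orderOf z = 2)
    (hR : ∀ t ∈ (S : Subgroup G) ⊓ pResidual 2 G, orderOf t = 2 → centralizer ({t} : Set G) ≤ M)
    (hu : ∀ x : G, x * z * x⁻¹ ∈ M → x ∈ M) :
    ∃ K : Subgroup ↥(pResidual 2 G), IsStronglyEmbedded K := by
  haveI : Fact (Nat.Prime 2) := ⟨Nat.prime_two⟩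
  haveI := Fusion.pResidual_normal 2 G
  set H := pResidual 2 G with hH
  have hne : M.subgroupOf H ≠ ⊤ := by
    rw [ne_eq, subgroupOf_eq_top]
    intro h
    refine hM (top_le_iff.1 ?_)
    rw [← Fusion.sylow_sup_pResidual S]
    exact sup_le hSM h
  have heven : Even (Nat.card ↥(M.subgroupOf H)) := by
    rw [even_iff_two_dvd, ← hz2]
    have hmem : (⟨z, hzH⟩ : ↥H) ∈ M.subgroupOf H := mem_subgroupOf.2 (hSM (zee_le S hz))
    have := orderOf_dvd_natCard (⟨_, hmem⟩ : ↥(M.subgroupOf H))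
    rwa [orderOf_mk, orderOf_mk] at this
  refine ⟨M.subgroupOf H, (Invol.stronglyEmbedded_iff hne heven).2 fun t ht ht2 g hg => mem_subgroupOf.2 ?_⟩
  have ht2' : orderOf (t : G) = 2 := by rw [orderOf_coe]; exact ht2
  obtain ⟨m, hm, hms⟩ := exists_conj_involution S hSM (mem_subgroupOf.1 ht) (Invol.inv_mul_self ht2')
  have ht' : (g : G) * t * (g : G)⁻¹ ∈ M := mem_subgroupOf.1 hg
  have ho' : orderOf ((g : G) * t * (g : G)⁻¹) = 2 := by rw [Invol.orderOf_conj_eq]; exact ht2'
  obtain ⟨m', hm', hms'⟩ := exists_conj_involution S hSM ht' (Invol.inv_mul_self ho')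
  set s' := m' * ((g : G) * t * (g : G)⁻¹) * m'⁻¹ with hs'
  set s := m * (t : G) * m⁻¹ with hs
  set x := m' * (g : G) * m⁻¹ with hx
  have hs'H : s' ∈ H := (inferInstance : H.Normal).conj_mem _ ((inferInstance : H.Normal).conj_mem _ t.2 _) _
  have hzs : z ∈ centralizer ({s} : Set G) := mem_centralizer_singleton_iff.2 (zee_commute hz hms).eq
  have e : x * s * x⁻¹ = s' := by rw [hx, hs, hs']; group
  have hxz : x * z * x⁻¹ ∈ M := by
    refine hR s' ⟨hms', hs'H⟩ (by rw [hs', Invol.orderOf_conj_eq]; exact ho') ?_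
    rw [← e]
    exact conj_mem_centralizer hzs
  have := mul_mem (mul_mem (inv_mem hm') (hu x hxz)) hm
  rwa [show m'⁻¹ * x * m = (g : G) by rw [hx]; group] at this

omit c in
/-- The uniqueness of `M` when all centralizers of involutions of `S ∩ H` lie in it. -/
theorem unique_of_all {M : Subgroup G} (hSM : (S : Subgroup G) ≤ M)
    (hNM : normalizer ((S : Subgroup G) : Set G) ≤ M) {z : G} (hz : z ∈ zee S) (hzH : z ∈ pResidual 2 G)
    (hz2 : orderOf z = 2)
    (hR : ∀ t ∈ (S : Subgroup G) ⊓ pResidual 2 G, orderOf t = 2 → centralizer ({t} : Set G) ≤ M)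
    (x : G) (hx : x * z * x⁻¹ ∈ M) : x ∈ M := by
  haveI := Fusion.pResidual_normal 2 G
  obtain ⟨m, hm, hms⟩ := exists_conj_involution S hSM hx (Invol.inv_mul_self (by rw [Invol.orderOf_conj_eq]; exact hz2))
  have e : m * x * z * (m * x)⁻¹ = m * (x * z * x⁻¹) * m⁻¹ := by group
  have hy : m * x ∈ M := mem_of_conj_sylow_le hSM hNM fun a ha => by
    refine hR (m * x * z * (m * x)⁻¹) ⟨e ▸ hms, (inferInstance : (pResidual 2 G).Normal).conj_mem _ hzH _⟩
      (by rw [Invol.orderOf_conj_eq]; exact hz2) ?_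
    exact conj_mem_centralizer (mem_centralizer_singleton_iff.2 (zee_commute hz ha).eq.symm)
  have := mul_mem (inv_mem hm) hy
  rwa [inv_mul_cancel_left] at this

theorem normalizer_ne_top {X : Subgroup G} (hX : X ≠ ⊥) (hodd : (Nat.card X).Coprime 2) :
    normalizer (X : Set G) ≠ ⊤ := fun h =>
  hX (le_bot_iff.1 (c.odd ▸ Core.le_pPrimeCore' (normalizer_eq_top_iff.1 h) hodd))

/-- If the cores at the involutions of `S ∩ HZ` are trivial, `HZ` has characteristic two type. -/
theorem charTwo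
    (h : ∀ t ∈ (S : Subgroup G), t ∈ pResidual 2 G ⊔ zee S → orderOf t = 2 →
      centralizerPPrimeCore 2 t = ⊥) :
    IsCharacteristicTwoType ↥(pResidual 2 G ⊔ zee S) := by
  haveI : Fact (Nat.Prime 2) := ⟨Nat.prime_two⟩
  haveI := Fusion.pResidual_normal 2 G
  set L := pResidual 2 G ⊔ zee S with hL
  haveI hLn : L.Normal := by
    refine normalizer_eq_top_iff.1 (top_le_iff.1 ?_)
    rw [← Fusion.sylow_sup_pResidual S]
    refine sup_le (fun s hs => mem_normalizer_fintype fun x hx => ?_) (le_sup_left.trans le_normalizer)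
    have e : zee S ≤ L := le_sup_right
    obtain ⟨a, ha, b, hb, rfl⟩ := mem_sup_of_normal_left.1 hx
    refine mem_sup_of_normal_left.2 ⟨s * a * s⁻¹, (inferInstance : (pResidual 2 G).Normal).conj_mem _ ha s,
      b, hb, ?_⟩
    calc s * a * s⁻¹ * b = s * a * (s⁻¹ * b) := by group
      _ = s * a * (b * s⁻¹) := by rw [((zee_commute hb (inv_mem hs)).eq).symm]
      _ = _ := by group
  refine charTwoType (G := ↥L) (fun t ht => ?_) ?_ fun t ht => ?_
  · haveI := c.sol (t : G) (by rw [orderOf_coe]; exact ht)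
    exact Group.isSolvable_of_isSolvable_injective
      (f := ((L.subtype).comp (centralizer ({t} : Set ↥L)).subtype).codRestrict (centralizer ({(t : G)} : Set G))
        fun x => mem_centralizer_singleton_iff.2 (congrArg Subtype.val (mem_centralizer_singleton_iff.1 x.2)))
      fun a b e => Subtype.ext (Subtype.ext (congrArg (fun w : ↥(centralizer ({(t : G)} : Set G)) => (w : G)) e))
  · obtain ⟨z, hz, hzH, hz2⟩ := c.exists_z
    rw [even_iff_two_dvd, ← hz2, show orderOf z = orderOf (⟨z, mem_sup_left hzH⟩ : ↥L) from (orderOf_mk _ _).symm]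
    exact orderOf_dvd_natCard _
  · have ht' : orderOf (t : G) = 2 := by rw [orderOf_coe]; exact ht
    obtain ⟨g, hg⟩ := Invol.exists_conj_mem_sylow S (isPGroup_zpowers_involution (Invol.inv_mul_self ht'))
    have hθ : centralizerPPrimeCore 2 (t : G) = ⊥ := by
      have h1 := h _ (hg _ (mem_zpowers _)) (hLn.conj_mem _ t.2 g) (by rw [Invol.orderOf_conj_eq]; exact ht')
      rw [← theta_map] at h1
      exact (map_eq_bot_iff_of_injective _ (MulAut.conj g).injective).1 h1
    set C := centralizer ({(t : G)} : Set G) with hC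
    set C' := centralizer ({t} : Set ↥L) with hC'
    set K := ((pPrimeCore 2 ↥C').map C'.subtype).map L.subtype with hK
    have hKC : K ≤ C := by
      rintro _ ⟨_, ⟨y, -, rfl⟩, rfl⟩
      exact mem_centralizer_singleton_iff.2 (congrArg Subtype.val (mem_centralizer_singleton_iff.1 y.2))
    set D := L ⊓ C with hD
    set K' := (pPrimeCore 2 ↥D).map D.subtype with hK'
    have e : C'.map L.subtype = D := by
      ext x
      constructor
      · rintro ⟨y, hy, rfl⟩
        exact ⟨y.2, mem_centralizer_singleton_iff.2 (congrArg Subtype.val (mem_centralizer_singleton_iff.1 hy))⟩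
      · rintro ⟨h1, h2⟩
        exact ⟨⟨x, h1⟩, mem_centralizer_singleton_iff.2 (Subtype.ext (mem_centralizer_singleton_iff.1 h2)), rfl⟩
    have hKD : K ≤ D := e ▸ map_mono (map_subtype_le _)
    have hDK : D ≤ normalizer (K : Set G) := by
      rw [← e]
      refine le_trans (map_mono ?_) (le_normalizer_map L.subtype)
      exact le_normalizer.trans (Core.normalizer_le_normalizer_map_char (pPrimeCore 2 ↥C'))
    have hKK' : K ≤ K' := fun x hx => ⟨⟨x, hKD hx⟩,
      Core.le_pPrimeCore' ((normal_subgroupOf_iff_le_normalizer hKD).2 hDK) (by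
        rw [Nat.card_congr (subgroupOfEquivOfLe hKD).toEquiv, hK,
          card_map_of_injective L.subtype_injective, card_map_of_injective C'.subtype_injective]
        exact Core.pPrimeCore_coprime 2 _) (mem_subgroupOf.2 hx), rfl⟩
    have hCD : C ≤ normalizer (D : Set G) := fun x hx => mem_normalizer_fintype fun y hy =>
      ⟨hLn.conj_mem _ hy.1 x, C.mul_mem (C.mul_mem hx hy.2) (C.inv_mem hx)⟩
    have hK'C : K' ≤ C := (map_subtype_le _).trans inf_le_right
    have hn : (K'.subgroupOf C).Normal := (normal_subgroupOf_iff_le_normalizer hK'C).2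
      (hCD.trans (Core.normalizer_le_normalizer_map_char (pPrimeCore 2 ↥D)))
    have hKbot : K ≤ ⊥ := by
      rw [← hθ]
      intro x hx
      exact ⟨⟨x, hKC hx⟩, Core.le_pPrimeCore' hn (by
        rw [Nat.card_congr (subgroupOfEquivOfLe hK'C).toEquiv, hK', card_map_of_injective D.subtype_injective]
        exact Core.pPrimeCore_coprime 2 _) (mem_subgroupOf.2 (hKK' hx)), rfl⟩
    exact (map_eq_bot_iff_of_injective _ L.subtype_injective).1 (le_bot_iff.1 hKbot)

/-- All involutions of `S ∩ H` are conjugate to the central involution: one of the conclusions holds. -/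
theorem oneClass {z : G} (hz : z ∈ zee S) (hzH : z ∈ pResidual 2 G) (hz2 : orderOf z = 2)
    (hC : centralizer ({z} : Set G) ≤ normalizer ((S : Subgroup G) : Set G))
    (hN : normalizer ((S : Subgroup G) : Set G) ≤ centralizer ({z} : Set G))
    (hZH : zee S ≤ pResidual 2 G)
    (hall : ∀ t ∈ (S : Subgroup G) ⊓ pResidual 2 G, orderOf t = 2 → ∃ g : G, g * z * g⁻¹ = t) :
    (∃ K : Subgroup ↥(pResidual 2 G), IsStronglyEmbedded K) ∨
      IsCharacteristicTwoType ↥(pResidual 2 G ⊔ zee S) := by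
  haveI : Fact (Nat.Prime 2) := ⟨Nat.prime_two⟩
  set W := centralizerPPrimeCore 2 z with hW
  set M := normalizer (W : Set G) with hM
  have hWodd : (Nat.card W).Coprime 2 := by
    rw [hW, centralizerPPrimeCore, card_map_of_injective (centralizer ({z} : Set G)).subtype_injective]
    exact Core.pPrimeCore_coprime 2 _
  have hCM : centralizer ({z} : Set G) ≤ M := fun x hx => Core.mem_normalizer_iff_map_conj.2 (by
    rw [hW, theta_map, mem_centralizer_singleton_iff.1 hx, mul_inv_cancel_right])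
  have hWC : W ≤ centralizer ({z} : Set G) := map_subtype_le _
  have hSW : ∀ w ∈ W, ∀ s ∈ (S : Subgroup G), Commute w s := fun w hw s hs => by
    have h1 : w * s * w⁻¹ * s⁻¹ ∈ (S : Subgroup G) :=
      mul_mem ((mem_normalizer_iff.1 (hC (hWC hw)) s).1 hs) (inv_mem hs)
    have h2 : w * (s * w⁻¹ * s⁻¹) ∈ W :=
      mul_mem hw ((mem_normalizer_iff.1 (hCM (sylow_le_centralizer_zee hz hs)) _).1 (inv_mem hw))
    have hbot : W ⊓ (S : Subgroup G) = ⊥ := by
      obtain ⟨k, hk⟩ := IsPGroup.iff_card.1 S.isPGroup'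
      exact disjoint_iff.1 (disjoint_of_coprime_natCard (hk ▸ hWodd.pow_right k))
    have h3 : w * s * w⁻¹ * s⁻¹ ∈ (⊥ : Subgroup G) :=
      hbot ▸ (⟨by simpa [mul_assoc] using h2, h1⟩ : _ ∈ W ⊓ (S : Subgroup G))
    rw [mem_bot] at h3
    exact mul_inv_eq_iff_eq_mul.1 (mul_inv_eq_one.1 h3)
  have key : ∀ t ∈ (S : Subgroup G) ⊓ pResidual 2 G, orderOf t = 2 →
      centralizerPPrimeCore 2 t = W ∧ centralizer ({t} : Set G) ≤ M := by
    intro t ht ht2
    obtain ⟨g, hg⟩ := hall t ht ht2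
    set C := centralizer ({t} : Set G) with hCdef
    have hWt : W ≤ C := fun w hw => mem_centralizer_singleton_iff.2 (hSW w hw t ht.1).eq
    haveI := c.sol t ht2
    have hle := Sig.le_pPrimeCore_of_centralizes (G := ↥C) (p := 2)
      (Sig.isPConstrained_of_isPSolvable Core.isPSolvable_of_isSolvable)
      (P := (S : Subgroup G).subgroupOf C) (Q := W.subgroupOf C) S.isPGroup'.comap_subtype
      (by rw [Nat.card_congr (subgroupOfEquivOfLe hWt).toEquiv]; exact hWodd)
      (fun w hw => mem_centralizer_iff.2 fun s hs =>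
        Subtype.ext (hSW _ (mem_subgroupOf.1 hw) _ (mem_subgroupOf.1 hs)).eq.symm)
      (fun y hy => by
        have hyz : (y : G) ∈ centralizer ({z} : Set G) := mem_centralizer_singleton_iff.2
          (congrArg Subtype.val (mem_centralizer_iff.1 hy
            ⟨z, mem_centralizer_singleton_iff.2 (zee_commute hz ht.1).eq⟩ (mem_subgroupOf.2 (zee_le S hz)))).symm
        exact mem_normalizer_fintype fun w hw => mem_subgroupOf.2
          ((mem_normalizer_iff.1 (hCM hyz) _).1 (mem_subgroupOf.1 hw)))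
    have hle' : W ≤ centralizerPPrimeCore 2 t := fun w hw => ⟨⟨w, hWt hw⟩, hle (mem_subgroupOf.2 hw), rfl⟩
    have he : W.map (MulAut.conj g).toMonoidHom = centralizerPPrimeCore 2 t := by rw [hW, theta_map, hg]
    have heq : centralizerPPrimeCore 2 t = W :=
      (eq_of_le_of_card_ge hle' (by rw [← he, card_map_of_injective (MulAut.conj g).injective])).symm
    have hgM : g ∈ M := Core.mem_normalizer_iff_map_conj.2 (he.trans heq)
    refine ⟨heq, fun x hx => ?_⟩
    have h1 := hCM (centralizer_conj_mem (g := g) (t := z) (by rw [hg]; exact hx))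
    have := mul_mem (mul_mem hgM h1) (inv_mem hgM)
    simpa [mul_assoc] using this
  by_cases hW1 : W = ⊥
  · refine Or.inr (c.charTwo fun t htS htL ht2 => ?_)
    rw [sup_eq_left.2 hZH] at htL
    exact (key t ⟨htS, htL⟩ ht2).1.trans hW1
  · refine Or.inl (se_of (M := M) (c.normalizer_ne_top hW1 hWodd)
      ((sylow_le_centralizer_zee hz).trans hCM) hz hzH hz2 (fun t ht ht2 => (key t ht ht2).2) ?_)
    exact unique_of_all ((sylow_le_centralizer_zee hz).trans hCM) (hN.trans hCM) hz hzH hz2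
      fun t ht ht2 => (key t ht ht2).2

end Setting

end Cfsg.Lib.Local.ZN
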