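import Cfsg.Agent.Lib.Local.ZN.Embedded
import Cfsg.Agent.Lib.RankTwoFusion.TwoGroups
import Cfsg.Agent.Lib.PGroup.NormalSq

/-!
# Reduction of groups with solvable involution centralizers and `C(Ω₁Z(S)) ≤ N(S)` to characteristic two
-/

set_option autoImplicit false
set_option linter.style.haveILetI false

namespace Cfsg.Lib.Local.ZN

open Subgroup Cfsg Cfsg.Lib

universe u

variable {G : Type u} [Group G] [Finite G]

/-- The four possible conclusions. -/
def Outcome (S : Sylow 2 G) : Prop :=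
  (∃ M : Subgroup ↥(pResidual 2 G), IsStronglyEmbedded M) ∨
  (Nat.card ↥(zee S ⊓ pResidual 2 G) = 2 ∧ ∀ h ∈ pResidual 2 G, ∀ z ∈ zee S ⊓ pResidual 2 G,
    h * z * h⁻¹ ∈ (S : Subgroup G) → h * z * h⁻¹ ∈ zee S) ∨
  (Nat.card ↥(zee S) = 4 ∧ omegaOne 2 ((S : Subgroup G) ⊓ pResidual 2 G) = zee S) ∨
  IsCharacteristicTwoType ↥(pResidual 2 G ⊔ zee S)

/-- An involution of `S` lies in an elementary subgroup of order at least eight of `S`. -/
def Covered (S : Sylow 2 G) (t : G) : Prop :=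
  ∃ B : Subgroup G, B ≤ (S : Subgroup G) ∧ IsElementaryAbelian 2 B ∧ 8 ≤ Nat.card B ∧ t ∈ B

theorem eight_le_of_lt {K L : Subgroup G} {S : Sylow 2 G} (hL : L ≤ (S : Subgroup G)) (hKL : K ≤ L)
    (h4 : 4 ≤ Nat.card K) {x : G} (hx : x ∈ L) (hxK : x ∉ K) : 8 ≤ Nat.card L := by
  obtain ⟨m, hm⟩ := card_dvd_of_le hKL
  have h1 : m ≠ 1 := fun h =>
    hxK ((eq_of_le_of_card_ge hKL (by rw [hm, h, mul_one])).ge hx)
  have h0 : m ≠ 0 := fun h => (Nat.card_pos (α := ↥L)).ne' (by rw [hm, h, mul_zero])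
  have := Nat.mul_le_mul h4 (show 2 ≤ m by omega)
  omega

theorem covered_of_four {S : Sylow 2 G} {E : Subgroup G} (hE : IsElementaryAbelian 2 E)
    (hES : E ≤ (S : Subgroup G)) (h4 : 4 ≤ Nat.card E) {t : G} (htS : t ∈ (S : Subgroup G)) (ht : t * t = 1)
    (htc : t ∈ centralizer (E : Set G)) (htE : t ∉ E) : Covered S t :=
  ⟨zpowers t ⊔ E, sup_le (zpowers_le.2 htS) hES,
    elementary_sup (elementary_zpowers_involution ht) hE (zpowers_le.2 htc),
    eight_le_of_lt (S := S) (sup_le (zpowers_le.2 htS) hES) le_sup_right h4 (mem_sup_left (mem_zpowers t)) htE,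
    mem_sup_left (mem_zpowers t)⟩

theorem zee_card_ne {S : Sylow 2 G} {z : G} (hz : z ∈ zee S) (hz2 : orderOf z = 2)
    (h : Nat.card ↥(zee S) < 4) : zee S = zpowers z := by
  refine (eq_of_le_of_card_ge (zpowers_le.2 hz) ?_).symm
  rw [Nat.card_zpowers, hz2]
  have hd := card_dvd_of_le (zpowers_le.2 hz)
  rw [Nat.card_zpowers, hz2] at hd
  omega

theorem four_cases {E : Subgroup G} (h4 : Nat.card E = 4) {a b c f : G} (ha : a ∈ E) (hb : b ∈ E) (hc : c ∈ E)
    (hf : f ∈ E) (hab : a ≠ b) (hac : a ≠ c) (hbc : b ≠ c) (ha1 : a ≠ 1) (hb1 : b ≠ 1) (hc1 : c ≠ 1) :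
    f = 1 ∨ f = a ∨ f = b ∨ f = c := by
  classical
  by_contra hne
  push Not at hne
  obtain ⟨h1, h2, h3, h4'⟩ := hne
  have hsub : (({1, a, b, c, f} : Finset G) : Set G) ⊆ (E : Set G) := by
    intro x hx
    simp only [Finset.coe_insert, Finset.coe_singleton, Set.mem_insert_iff, Set.mem_singleton_iff] at hx
    rcases hx with rfl | rfl | rfl | rfl | rfl
    exacts [one_mem _, ha, hb, hc, hf]
  have := Set.ncard_le_ncard hsub (Set.toFinite _)
  rw [Set.ncard_coe_finset, ← Nat.card_coe_set_eq] at this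
  have h5 : ({1, a, b, c, f} : Finset G).card = 5 := by
    rw [Finset.card_insert_of_notMem, Finset.card_insert_of_notMem, Finset.card_insert_of_notMem,
      Finset.card_insert_of_notMem, Finset.card_singleton] <;>
    simp [hab, hac, hbc, ha1.symm, hb1.symm, hc1.symm, h1.symm, h2.symm, h3.symm, h4'.symm]
  simp only [SetLike.coe_sort_coe] at this
  omega

theorem relIndex_zpowers_eq {K : Subgroup G} (a : ↥K) :
    (zpowers (a : G)).relIndex K = (zpowers a).index := by
  rw [relIndex, ← show (zpowers a).map K.subtype = zpowers (a : G) from MonoidHom.map_zpowers K.subtype a,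
    subgroupOf, comap_map_eq_self_of_injective K.subtype_injective]

namespace Setting

variable {S : Sylow 2 G} (c : Setting S)
include c

theorem outcome_of {hd : Prop} (hd' : hd)
    (h : hd → (∃ K : Subgroup ↥(pResidual 2 G), IsStronglyEmbedded K) ∨
      IsCharacteristicTwoType ↥(pResidual 2 G ⊔ zee S)) : Outcome S :=
  (h hd').elim Or.inl fun h => Or.inr (Or.inr (Or.inr h))

/-- The case `|Ω₁Z(S)| ≥ 4`. -/
theorem large (h4 : 4 ≤ Nat.card ↥(zee S)) : Outcome S := by
  haveI : Fact (Nat.Prime 2) := ⟨Nat.prime_two⟩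
  haveI := Fusion.pResidual_normal 2 G
  obtain ⟨z, hz, hzH, hz2⟩ := c.exists_z
  by_cases hq : Nat.card ↥(zee S) = 4 ∧ ∀ t ∈ (S : Subgroup G), t * t = 1 → t ∈ zee S
  · obtain ⟨hc4, hall⟩ := hq
    by_cases hZH : zee S ≤ pResidual 2 G
    · refine Or.inr (Or.inr (Or.inl ⟨hc4, le_antisymm ((closure_le _).2 fun x hx => ?_) fun x hx => ?_⟩))
      · exact hall x hx.1.1 (by rw [← pow_two]; exact hx.2)
      · exact subset_closure ⟨⟨zee_le S hx, hZH hx⟩, by rw [pow_two]; exact zee_sq hx⟩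
    · refine Or.inr (Or.inl ⟨?_, fun h _ x hx hS => hall _ hS (by
        rw [show h * x * h⁻¹ * (h * x * h⁻¹) = h * (x * x) * h⁻¹ by group, zee_sq hx.1]; group)⟩)
      have hd := card_dvd_of_le (inf_le_left : zee S ⊓ pResidual 2 G ≤ zee S)
      have hne : Nat.card ↥(zee S ⊓ pResidual 2 G) ≠ 4 := fun h =>
        hZH (inf_eq_left.1 (eq_of_le_of_card_ge inf_le_left (by rw [hc4, h])))
      have hz' : orderOf z ∣ Nat.card ↥(zee S ⊓ pResidual 2 G) := Subgroup.orderOf_dvd_natCard _ ⟨hz, hzH⟩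
      rw [hc4] at hd
      rw [hz2] at hz'
      have := Nat.le_of_dvd (by norm_num) hd
      have : 0 < Nat.card ↥(zee S ⊓ pResidual 2 G) := Nat.card_pos
      interval_cases (Nat.card ↥(zee S ⊓ pResidual 2 G)) <;> omega
  have hSZ : (S : Subgroup G) ≤ centralizer (zee S : Set G) := fun x hx =>
    mem_centralizer_iff.2 fun y hy => (zee_commute hy hx).eq
  have hex : ∃ A : Subgroup G, A ≤ (S : Subgroup G) ∧ IsElementaryAbelian 2 A ∧ 8 ≤ Nat.card A ∧ zee S ≤ A := by
    obtain ⟨k, hk⟩ := IsPGroup.iff_card.1 (S.isPGroup'.to_le (zee_le S))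
    by_cases h8 : 8 ≤ Nat.card ↥(zee S)
    · exact ⟨zee S, zee_le S, zee_elementary S, h8, le_rfl⟩
    have hc4 : Nat.card ↥(zee S) = 4 := by
      rw [hk] at h4 h8 ⊢
      rcases Nat.lt_or_ge k 3 with h | h
      · interval_cases k <;> omega
      · exact absurd (le_trans (by norm_num) (Nat.pow_le_pow_right (n := 2) (by norm_num) h)) h8
    simp only [hc4, true_and, not_forall] at hq
    obtain ⟨t, htS, ht, htZ⟩ := hq
    refine ⟨zpowers t ⊔ zee S, sup_le (zpowers_le.2 htS) (zee_le S),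
      elementary_sup (elementary_zpowers_involution ht) (zee_elementary S) (zpowers_le.2 (hSZ htS)),
      eight_le_of_lt (S := S) (sup_le (zpowers_le.2 htS) (zee_le S)) le_sup_right h4
        (mem_sup_left (mem_zpowers t)) htZ, le_sup_right⟩
  have b : Base S (zee S) := ⟨c.sol, zee_le S, hSZ.trans (centralizer_le_normalizer _), zee_elementary S, h4,
    fun B hBS _ h8 => by
      rw [inf_eq_left.2 (hBS.trans hSZ)]
      omega, hex⟩
  have hcov : ∀ t ∈ (S : Subgroup G), orderOf t = 2 → Covered S t := by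
    intro t ht ht2
    by_cases htZ : t ∈ zee S
    · obtain ⟨A, hAS, hA, hA8, hZA⟩ := hex
      exact ⟨A, hAS, hA, hA8, hZA htZ⟩
    · exact covered_of_four (zee_elementary S) (zee_le S) h4 ht (Invol.inv_mul_self ht2) (hSZ ht) htZ
  set X := clos (zee S) with hX
  by_cases hX1 : X = ⊥
  · refine Or.inr (Or.inr (Or.inr (c.charTwo fun t htS _ ht2 => ?_)))
    obtain ⟨B, hBS, hB, h8, htB⟩ := hcov t htS ht2
    exact le_bot_iff.1 (hX1 ▸ b.theta_le hB hBS h8 htB (Invol.ne_one ht2))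
  have hR : ∀ t ∈ (S : Subgroup G) ⊓ pResidual 2 G, orderOf t = 2 →
      centralizer ({t} : Set G) ≤ normalizer (X : Set G) := by
    intro t ht ht2
    obtain ⟨B, hBS, hB, h8, htB⟩ := hcov t ht.1 ht2
    exact b.centralizer_le c.zc hB hBS h8 htB (Invol.ne_one ht2)
  exact Or.inl (se_of (c.normalizer_ne_top hX1 (Nat.coprime_two_right.2 b.clos_odd)) b.sylow_le hz hzH hz2 hR
    (unique_of_all b.sylow_le b.normalizer_sylow_le hz hzH hz2 hR))

variable {z : G} (hz : z ∈ zee S) (hzH : z ∈ pResidual 2 G) (hz2 : orderOf z = 2) (hZz : zee S = zpowers z)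
include hz hzH hz2 hZz

omit hz hzH in
theorem eq_z {w : G} (hw : w ∈ zee S) (hw1 : w ≠ 1) : w = z := by
  haveI : IsCyclic ↥(zpowers z) := inferInstance
  exact involution_unique (hZz ▸ hw) (mem_zpowers z) (Invol.orderOf_eq_two_of hw1 (zee_sq hw)) hz2

omit hzH hz2 in
theorem centralizer_z_le : centralizer ({z} : Set G) ≤ normalizer ((S : Subgroup G) : Set G) := by
  rw [← Local.FreeAction.centralizer_zpowers_eq, ← hZz]
  exact c.zc

omit hzH in
theorem normalizer_le_z : normalizer ((S : Subgroup G) : Set G) ≤ centralizer ({z} : Set G) := fun n hn => by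
  have hzS := zee_le S hz
  have h : n * z * n⁻¹ ∈ zee S := mem_zee ((mem_normalizer_iff.1 hn z).1 hzS)
    (by rw [show n * z * n⁻¹ * (n * z * n⁻¹) = n * (z * z) * n⁻¹ by group, zee_sq hz]; group)
    fun x hx => by
      have hx' : n⁻¹ * x * n ∈ (S : Subgroup G) := (mem_normalizer_iff''.1 hn x).1 hx
      calc x * (n * z * n⁻¹) = n * ((n⁻¹ * x * n) * z) * n⁻¹ := by group
        _ = n * (z * (n⁻¹ * x * n)) * n⁻¹ := by rw [(zee_commute hz hx').eq]
        _ = _ := by group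
  have e := c.eq_z hz2 hZz h fun e => Invol.ne_one hz2 (conj_eq_one_iff.1 e)
  exact mem_centralizer_singleton_iff.2 (mul_inv_eq_iff_eq_mul.1 e)

omit hz hz2 in
theorem zee_le_residual : zee S ≤ pResidual 2 G := hZz ▸ zpowers_le.2 hzH

/-- The case of a cyclic subgroup of index at most two in `S`. -/
theorem cyclic {a : G} (ha : a ∈ (S : Subgroup G)) (h2 : (zpowers a).relIndex (S : Subgroup G) ≤ 2) :
    Outcome S := by
  refine c.outcome_of trivial fun _ => c.oneClass hz hzH hz2 (c.centralizer_z_le hz hZz)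
    (c.normalizer_le_z hz hz2 hZz) (c.zee_le_residual hzH hZz) fun t ht ht2 => ?_
  obtain ⟨h, -, hh⟩ := transfer (Q := zpowers a ⊓ ((S : Subgroup G) ⊓ pResidual 2 G)) inf_le_right
    (relIndex_le_two fun x hx y hy hxK hyK => ⟨mul_mem_of_relIndex_le_two h2 x hx.1 y hy.1
      (fun e => hxK ⟨e, hx⟩) (fun e => hyK ⟨e, hy⟩), mul_mem hx hy⟩) ht ht2
  set w := h * t * h⁻¹ with hw
  have hw2 : orderOf w = 2 := by rw [hw, Invol.orderOf_conj_eq]; exact ht2
  have hcen : ∀ x ∈ (S : Subgroup G), x * w = w * x := fun x hx => by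
    have hmem : x * w * x⁻¹ ∈ zpowers a := by
      by_contra hn
      have hxa : x ∉ zpowers a := fun e => hn (mul_mem (mul_mem e hh.1) (inv_mem e))
      have h1 : x * w ∉ zpowers a := fun e => hxa (by simpa [mul_assoc] using mul_mem e (inv_mem hh.1))
      exact hn (mul_mem_of_relIndex_le_two h2 _ (mul_mem hx hh.2.1) _ (inv_mem hx) h1 fun e => hxa (by simpa using inv_mem e))
    have := involution_unique hmem hh.1 (by rw [Invol.orderOf_conj_eq]; exact hw2) hw2
    exact mul_inv_eq_iff_eq_mul.1 this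
  have hwz : w = z := c.eq_z hz2 hZz (mem_zee hh.2.1 (Invol.inv_mul_self hw2) hcen) (Invol.ne_one hw2)
  exact ⟨h⁻¹, by rw [← hwz, hw]; group⟩

variable {E : Subgroup G} (hES : E ≤ (S : Subgroup G)) (hSE : (S : Subgroup G) ≤ normalizer (E : Set G))
  (hE : IsElementaryAbelian 2 E) (h4 : Nat.card E = 4) (hzE : z ∈ E)
include hES hSE hE h4 hzE

omit hzH hES in
theorem swap_e {e : G} (he : e ∈ E) (he1 : e ≠ 1) (hez : e ≠ z) {x : G} (hx : x ∈ (S : Subgroup G))
    (hxE : x ∉ centralizer (E : Set G)) : x * e * x⁻¹ = z * e := by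
  have hz1 := Invol.ne_one hz2
  have hzee : z * e ≠ 1 := fun h => hez (by
    rw [← inv_eq_of_mul_eq_one_right h, Invol.inv_eq_self hz2])
  have h3 : ∀ f ∈ E, f = 1 ∨ f = z ∨ f = e ∨ f = z * e := fun f hf =>
    four_cases h4 hzE he (mul_mem hzE he) hf hez.symm
      (fun h => he1 (left_eq_mul.1 h)) (fun h => hz1 (right_eq_mul.1 h)) hz1 he1 hzee
  have hzx : x * z * x⁻¹ = z := by rw [(zee_commute hz hx).eq.symm, mul_inv_cancel_right]
  rcases h3 _ ((mem_normalizer_iff.1 (hSE hx) e).1 he) with h | h | h | h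
  · exact absurd (conj_eq_one_iff.1 h) he1
  · exact absurd (mul_left_cancel (mul_right_cancel (h.trans hzx.symm))) hez
  · refine absurd (mem_centralizer_iff.2 fun f hf => ?_) hxE
    have hxz : z * x = x * z := (zee_commute hz hx).eq
    have hxe : e * x = x * e := (mul_inv_eq_iff_eq_mul.1 h).symm
    rcases h3 f hf with rfl | rfl | rfl | rfl
    · simp
    · exact hxz
    · exact hxe
    · rw [mul_assoc, hxe, ← mul_assoc, hxz, mul_assoc]
  · exact h

omit hzH hES in
theorem mul_mem_centralizer {x y : G} (hx : x ∈ (S : Subgroup G)) (hy : y ∈ (S : Subgroup G))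
    (hxE : x ∉ centralizer (E : Set G)) (hyE : y ∉ centralizer (E : Set G)) :
    x * y ∈ centralizer (E : Set G) := by
  refine mem_centralizer_iff.2 fun f hf => (mul_inv_eq_iff_eq_mul.1 ?_).symm
  show x * y * f * (x * y)⁻¹ = f
  have hconj : ∀ w ∈ (S : Subgroup G), w * z * w⁻¹ = z := fun w hw => by
    rw [(zee_commute hz hw).eq.symm, mul_inv_cancel_right]
  by_cases hf1 : f = 1
  · simp [hf1]
  by_cases hfz : f = z
  · subst hfz
    exact hconj _ (mul_mem hx hy)
  have e1 := c.swap_e hz hz2 hZz hSE hE h4 hzE hf hf1 hfz hx hxE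
  have e2 := c.swap_e hz hz2 hZz hSE hE h4 hzE hf hf1 hfz hy hyE
  calc x * y * f * (x * y)⁻¹ = x * (y * f * y⁻¹) * x⁻¹ := by group
    _ = x * (z * f) * x⁻¹ := by rw [e2]
    _ = x * z * x⁻¹ * (x * f * x⁻¹) := by group
    _ = f := by rw [e1, hconj x hx, ← mul_assoc, zee_sq hz, one_mul]

omit hzH hES in
theorem relIndex_inf_centralizer {B : Subgroup G} (hB : B ≤ (S : Subgroup G)) :
    (B ⊓ centralizer (E : Set G)).relIndex B ≤ 2 :=
  relIndex_le_two fun x hx y hy hxK hyK => ⟨mul_mem hx hy, c.mul_mem_centralizer hz hz2 hZz hSE hE h4 hzE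
    (hB hx) (hB hy) (fun e => hxK ⟨hx, e⟩) fun e => hyK ⟨hy, e⟩⟩

omit hzH in
theorem covered_of_centralizes {A : Subgroup G} (hA : A ≤ (S : Subgroup G)) (hAe : IsElementaryAbelian 2 A)
    (h8 : 8 ≤ Nat.card A) (hEA : E ≤ A) {s : G} (hs : s ∈ (S : Subgroup G)) (hs2 : s * s = 1)
    (hsE : s ∈ centralizer (E : Set G)) : Covered S s := by
  by_cases h : s ∈ E
  · exact ⟨A, hA, hAe, h8, hEA h⟩
  · exact covered_of_four hE hES h4.ge hs hs2 hsE h

omit hzH in
/-- An uncovered conjugate of `z` outside `C(E)` has its mirror image inside. -/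
theorem mirror (hnc : ∀ a ∈ (S : Subgroup G), ¬ (zpowers a).relIndex (S : Subgroup G) ≤ 2) {y s : G}
    (hs : y * z * y⁻¹ = s) (hsS : s ∈ (S : Subgroup G)) (hsE : s ∉ centralizer (E : Set G))
    (hcov : ¬ Covered S s) : y⁻¹ * z * y ∈ (S : Subgroup G) ∧ y⁻¹ * z * y ∈ centralizer (E : Set G) := by
  haveI : Fact (Nat.Prime 2) := ⟨Nat.prime_two⟩
  have hzS := zee_le S hz
  have hback : ∀ d ∈ (S : Subgroup G), d * s = s * d → y⁻¹ * d * y ∈ (S : Subgroup G) := fun d hd hds => by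
    have hdC : d ∈ centralizer ({y * z * y⁻¹} : Set G) := by
      rw [hs]
      exact mem_centralizer_singleton_iff.2 hds
    have hn : y⁻¹ * d * y⁻¹⁻¹ ∈ normalizer ((S : Subgroup G) : Set G) := by
      rw [inv_inv]
      exact c.centralizer_z_le hz hZz (centralizer_conj_mem hdC)
    simpa using conj_mem_sylow_of_normalizer hd hn
  have hmem := hback z hzS (zee_commute hz hsS).eq
  refine ⟨hmem, by_contra fun hbad => ?_⟩
  have hz1 := Invol.ne_one hz2
  have hs2 : orderOf s = 2 := by rw [← hs, Invol.orderOf_conj_eq]; exact hz2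
  have hsq : ∀ d ∈ (S : Subgroup G), d * d ∈ centralizer (E : Set G) := fun d hd => by
    by_cases hdE : d ∈ centralizer (E : Set G)
    · exact mul_mem hdE hdE
    · exact c.mul_mem_centralizer hz hz2 hZz hSE hE h4 hzE hd hd hdE hdE
  -- involutions of `C(E)` centralizing `s`
  have hinv : ∀ d ∈ (S : Subgroup G), d ∈ centralizer (E : Set G) → d * s = s * d → d * d = 1 →
      d = 1 ∨ d = z := by
    intro d hd hdE hds hdd
    by_contra hne
    push Not at hne
    apply hcov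
    set K := zpowers z ⊔ zpowers d with hK
    have hKe : IsElementaryAbelian 2 K := elementary_sup (elementary_zpowers_involution (zee_sq hz))
      (elementary_zpowers_involution hdd) (zpowers_le.2 (mem_centralizer_iff.2 fun w hw => by
        obtain ⟨k, rfl⟩ := mem_zpowers_iff.1 hw
        exact ((zee_commute hz hd).zpow_right k).eq.symm))
    have hKS : K ≤ (S : Subgroup G) := sup_le (zpowers_le.2 hzS) (zpowers_le.2 hd)
    have hK4 : 4 ≤ Nat.card K := by
      have hd2 : orderOf d = 2 := Invol.orderOf_eq_two_of hne.1 hdd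
      have hlt : zpowers d < K := lt_of_le_of_ne le_sup_right fun e => hne.2
        (involution_unique (A := zpowers d) (mem_zpowers d) (e.symm ▸ mem_sup_left (mem_zpowers z)) hd2 hz2)
      obtain ⟨m, hm⟩ := card_dvd_of_le hlt.le
      have h1 : m ≠ 1 := fun h => hlt.ne (eq_of_le_of_card_ge hlt.le (by rw [hm, h, mul_one]))
      have h0 : m ≠ 0 := fun h => (Nat.card_pos (α := ↥K)).ne' (by rw [hm, h, mul_zero])
      rw [hm, Nat.card_zpowers, hd2]
      omega
    refine covered_of_four hKe hKS hK4 hsS (Invol.inv_mul_self hs2) ?_ fun e => hsE ?_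
    · refine mem_centralizer_iff.2 fun w hw => ?_
      have : K ≤ centralizer ({s} : Set G) := sup_le
        (zpowers_le.2 (mem_centralizer_singleton_iff.2 (zee_commute hz hsS).eq))
        (zpowers_le.2 (mem_centralizer_singleton_iff.2 hds))
      exact mem_centralizer_singleton_iff.1 (this hw)
    · refine (sup_le (zpowers_le.2 ?_) (zpowers_le.2 hdE) : K ≤ centralizer (E : Set G)) e
      exact mem_centralizer_iff.2 fun f hf => (elementary_commute hE hf hzE).eq
  have hsmall : ∀ k : ℕ, ∀ d ∈ (S : Subgroup G), d ∈ centralizer (E : Set G) → d * s = s * d →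
      d ^ 2 ^ k = 1 → d = 1 ∨ d = z := by
    intro k
    induction k with
    | zero => intro d _ _ _ h; exact Or.inl (by simpa using h)
    | succ k ih =>
      intro d hd hdE hds h
      rcases ih (d * d) (mul_mem hd hd) (mul_mem hdE hdE) (Commute.mul_left hds hds)
          (by rw [← pow_two, ← pow_mul, ← pow_succ']; exact h) with h1 | h1
      · exact hinv d hd hdE hds h1
      · refine absurd ?_ hbad
        have e : y⁻¹ * z * y = (y⁻¹ * d * y) * (y⁻¹ * d * y) := by rw [← h1]; group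
        rw [e]
        exact hsq _ (hback d hd hds)
  have hC : ∀ d ∈ (S : Subgroup G), s * d = d * s → d = 1 ∨ d = s ∨ d = z ∨ d = z * s := by
    intro d hd hds
    by_cases hdE : d ∈ centralizer (E : Set G)
    · obtain ⟨k, hk⟩ := S.isPGroup' ⟨d, hd⟩
      rcases hsmall k d hd hdE hds.symm (congrArg Subtype.val hk) with h | h
      · exact Or.inl h
      · exact Or.inr (Or.inr (Or.inl h))
    · obtain ⟨k, hk⟩ := S.isPGroup' ⟨d * s, mul_mem hd hsS⟩
      have hss := Invol.inv_mul_self hs2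
      rcases hsmall k (d * s) (mul_mem hd hsS)
          (c.mul_mem_centralizer hz hz2 hZz hSE hE h4 hzE hd hsS hdE hsE)
          (by rw [← mul_assoc, hds]) (congrArg Subtype.val hk) with h | h
      · exact Or.inr (Or.inl (by rw [eq_inv_of_mul_eq_one_left h, Invol.inv_eq_self hs2]))
      · exact Or.inr (Or.inr (Or.inr (by rw [← h, mul_assoc, hss, mul_one])))
  have hsne : z ≠ s := fun e => hsE (e ▸ mem_centralizer_iff.2 fun f hf => (elementary_commute hE hf hzE).eq)
  have hw : ∃ x : ↥(S : Subgroup G), (⟨s, hsS⟩ : ↥(S : Subgroup G)) * x ≠ x * ⟨s, hsS⟩ := by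
    obtain ⟨f, hf, hfs⟩ : ∃ f ∈ E, f * s ≠ s * f := by
      by_contra hall
      push Not at hall
      exact hsE (mem_centralizer_iff.2 hall)
    exact ⟨⟨f, hES hf⟩, fun e => hfs (congrArg Subtype.val e).symm⟩
  have hdq := RankTwoFusion.dihedral_or_quasiDihedral (S.isPGroup') (w := ⟨s, hsS⟩) (z := ⟨z, hzS⟩)
    (Subtype.ext (Invol.inv_mul_self hs2)) (fun e => Invol.ne_one hs2 (congrArg Subtype.val e))
    (Subtype.ext (zee_sq hz)) (fun e => hz1 (congrArg Subtype.val e))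
    (fun e => hsne (congrArg Subtype.val e)) (fun x => Subtype.ext (zee_commute hz x.2).eq) hw
    (fun d hd => by
      rcases hC d d.2 (congrArg Subtype.val hd) with h | h | h | h
      · exact Or.inl (Subtype.ext h)
      · exact Or.inr (Or.inl (Subtype.ext h))
      · exact Or.inr (Or.inr (Or.inl (Subtype.ext h)))
      · exact Or.inr (Or.inr (Or.inr (Subtype.ext h))))
  obtain ⟨a, ha⟩ : ∃ a : ↥(S : Subgroup G), (zpowers a).index = 2 := by
    rcases hdq with ⟨m, hm, ⟨φ⟩⟩ | ⟨n, -, hc, x, -, hx, -, -⟩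
    · haveI : NeZero m := ⟨by omega⟩
      refine ⟨φ.symm (DihedralGroup.r 1), ?_⟩
      have h1 : orderOf (φ.symm (DihedralGroup.r 1)) = m := by
        rw [φ.symm.orderOf_eq, DihedralGroup.orderOf_r_one]
      have h := (zpowers (φ.symm (DihedralGroup.r 1))).card_mul_index
      rw [Nat.card_zpowers, h1, Nat.card_congr φ.toEquiv, DihedralGroup.nat_card, mul_comm 2 m] at h
      exact Nat.eq_of_mul_eq_mul_left (by omega) h
    · refine ⟨x, ?_⟩
      have h := (zpowers x).card_mul_index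
      rw [Nat.card_zpowers, hx, hc, pow_succ] at h
      exact Nat.eq_of_mul_eq_mul_left (by positivity) h
  exact hnc a a.2 (by rw [relIndex_zpowers_eq, ha])

/-- The case `|Ω₁Z(S)| = 2` with an elementary subgroup of order eight in `S`. -/
theorem rankThree (hnc : ∀ a ∈ (S : Subgroup G), ¬ (zpowers a).relIndex (S : Subgroup G) ≤ 2)
    {B₀ : Subgroup G} (hB₀S : B₀ ≤ (S : Subgroup G)) (hB₀ : IsElementaryAbelian 2 B₀)
    (h₀ : 8 ≤ Nat.card B₀) : Outcome S := by
  haveI : Fact (Nat.Prime 2) := ⟨Nat.prime_two⟩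
  haveI := Fusion.pResidual_normal 2 G
  have hmeet : ∀ B : Subgroup G, B ≤ (S : Subgroup G) → IsElementaryAbelian 2 B → 8 ≤ Nat.card B →
      4 ≤ Nat.card ↥(B ⊓ centralizer (E : Set G)) := fun B hBS _ h8 => by
    have h1 := Core.card_mul_relIndex (inf_le_left : B ⊓ centralizer (E : Set G) ≤ B)
    have h2 := c.relIndex_inf_centralizer hz hz2 hZz hSE hE h4 hzE hBS
    have := Nat.mul_le_mul_left (Nat.card ↥(B ⊓ centralizer (E : Set G))) h2
    omega
  have hex : ∃ A : Subgroup G, A ≤ (S : Subgroup G) ∧ IsElementaryAbelian 2 A ∧ 8 ≤ Nat.card A ∧ E ≤ A := by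
    by_cases h : E ≤ B₀
    · exact ⟨B₀, hB₀S, hB₀, h₀, h⟩
    set K := B₀ ⊓ centralizer (E : Set G)
    have hne : ¬ K ≤ E := fun hle => h
      ((eq_of_le_of_card_ge hle (h4.le.trans (hmeet B₀ hB₀S hB₀ h₀))).ge.trans inf_le_left)
    obtain ⟨x, hxK, hxE⟩ := SetLike.not_le_iff_exists.1 hne
    have hS' : K ⊔ E ≤ (S : Subgroup G) := sup_le (inf_le_left.trans hB₀S) hES
    exact ⟨K ⊔ E, hS', elementary_sup (elementary_mono hB₀ inf_le_left) hE inf_le_right,
      eight_le_of_lt (S := S) hS' le_sup_right h4.ge (mem_sup_left hxK) hxE, le_sup_right⟩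
  have b : Base S E := ⟨c.sol, hES, hSE, hE, h4.ge, hmeet, hex⟩
  obtain ⟨A, hAS, hA, hA8, hEA⟩ := hex
  have hcovE : ∀ s ∈ (S : Subgroup G), s * s = 1 → s ∈ centralizer (E : Set G) → Covered S s :=
    fun s hs hs2 hsE => c.covered_of_centralizes hz hz2 hZz hES hSE hE h4 hzE hAS hA hA8 hEA hs hs2 hsE
  have htr : ∀ t ∈ (S : Subgroup G) ⊓ pResidual 2 G, orderOf t = 2 →
      ∃ h : G, h ∈ pResidual 2 G ∧ h * t * h⁻¹ ∈ (S : Subgroup G) ∧ Covered S (h * t * h⁻¹) := by
    intro t ht ht2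
    obtain ⟨h, hh, hQ⟩ := transfer
      (Q := ((S : Subgroup G) ⊓ pResidual 2 G) ⊓ centralizer (E : Set G)) inf_le_left
      (c.relIndex_inf_centralizer hz hz2 hZz hSE hE h4 hzE inf_le_left) ht ht2
    exact ⟨h, hh, hQ.1.1, hcovE _ hQ.1.1 (Invol.inv_mul_self (by rw [Invol.orderOf_conj_eq]; exact ht2)) hQ.2⟩
  set X := clos E with hX
  by_cases hX1 : X = ⊥
  · refine Or.inr (Or.inr (Or.inr (c.charTwo fun t htS htL ht2 => ?_)))
    rw [sup_eq_left.2 (c.zee_le_residual hzH hZz)] at htL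
    obtain ⟨h, -, -, B, hBS, hB, h8, hm⟩ := htr t ⟨htS, htL⟩ ht2
    have h1 : centralizerPPrimeCore 2 (h * t * h⁻¹) = ⊥ := le_bot_iff.1
      (hX1 ▸ b.theta_le hB hBS h8 hm fun e => Invol.ne_one ht2 (conj_eq_one_iff.1 e))
    rw [← theta_map] at h1
    exact (map_eq_bot_iff_of_injective _ (MulAut.conj h).injective).1 h1
  set M := normalizer (X : Set G) with hM
  have hcM : ∀ s, Covered S s → s ≠ 1 → centralizer ({s} : Set G) ≤ M := by
    rintro s ⟨B, hBS, hB, h8, hsB⟩ hs1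
    exact b.centralizer_le c.zc hB hBS h8 hsB hs1
  have hu : ∀ x : G, x * z * x⁻¹ ∈ M → x ∈ M := by
    intro x hx
    obtain ⟨m, hm, hms⟩ := exists_conj_involution S b.sylow_le hx
      (Invol.inv_mul_self (by rw [Invol.orderOf_conj_eq]; exact hz2))
    set y := m * x with hy
    have e : y * z * y⁻¹ = m * (x * z * x⁻¹) * m⁻¹ := by rw [hy]; group
    rw [← e] at hms
    suffices hyM : y ∈ M by
      have := mul_mem (inv_mem hm) hyM
      rwa [hy, inv_mul_cancel_left] at this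
    have hs2 : orderOf (y * z * y⁻¹) = 2 := by rw [Invol.orderOf_conj_eq]; exact hz2
    by_cases hcs : Covered S (y * z * y⁻¹)
    · exact mem_of_conj_sylow_le b.sylow_le b.normalizer_sylow_le fun a ha =>
        hcM _ hcs (Invol.ne_one hs2) (conj_mem_centralizer (sylow_le_centralizer_zee hz ha))
    have hsE : y * z * y⁻¹ ∉ centralizer (E : Set G) := fun h =>
      hcs (hcovE _ hms (Invol.inv_mul_self hs2) h)
    obtain ⟨h1, h2⟩ := c.mirror hz hz2 hZz hES hSE hE h4 hzE hnc rfl hms hsE hcs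
    have hs2' : orderOf (y⁻¹ * z * y⁻¹⁻¹) = 2 := by rw [Invol.orderOf_conj_eq]; exact hz2
    rw [inv_inv] at hs2'
    have hyi : y⁻¹ ∈ M := mem_of_conj_sylow_le b.sylow_le b.normalizer_sylow_le fun a ha => by
      refine hcM _ (hcovE _ h1 (Invol.inv_mul_self hs2') h2) (Invol.ne_one hs2') ?_
      have := conj_mem_centralizer (g := y⁻¹) (sylow_le_centralizer_zee hz ha)
      simpa using this
    simpa using inv_mem hyi
  refine Or.inl (se_of (c.normalizer_ne_top hX1 (Nat.coprime_two_right.2 b.clos_odd)) b.sylow_le hz hzH hz2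
    (fun t ht ht2 w hw => ?_) hu)
  obtain ⟨h, -, -, hcov⟩ := htr t ht ht2
  have ho : orderOf (h * t * h⁻¹) = 2 := by rw [Invol.orderOf_conj_eq]; exact ht2
  have hzt : z ∈ centralizer ({t} : Set G) := mem_centralizer_singleton_iff.2 (zee_commute hz ht.1).eq
  have hhM : h ∈ M := hu h (hcM _ hcov (Invol.ne_one ho) (conj_mem_centralizer hzt))
  have := mul_mem (mul_mem (inv_mem hhM) (hcM _ hcov (Invol.ne_one ho) (conj_mem_centralizer hw))) hhM
  simpa [mul_assoc] using this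

/-- The case `|Ω₁Z(S)| = 2` without an elementary subgroup of order eight in `S`. -/
theorem noEight (hnc : ∀ a ∈ (S : Subgroup G), ¬ (zpowers a).relIndex (S : Subgroup G) ≤ 2)
    (hno : ∀ t : G, ¬ Covered S t) : Outcome S := by
  haveI : Fact (Nat.Prime 2) := ⟨Nat.prime_two⟩
  by_cases hweak : ∀ h ∈ pResidual 2 G, ∀ w ∈ zee S ⊓ pResidual 2 G,
      h * w * h⁻¹ ∈ (S : Subgroup G) → h * w * h⁻¹ ∈ zee S
  · refine Or.inr (Or.inl ⟨?_, hweak⟩)
    rw [inf_eq_left.2 (c.zee_le_residual hzH hZz), hZz, Nat.card_zpowers, hz2]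
  simp only [not_forall] at hweak
  obtain ⟨h, -, w, hw, hhS, hhZ⟩ := hweak
  have hw1 : w ≠ 1 := fun e => hhZ (by rw [e, mul_one, mul_inv_cancel]; exact one_mem _)
  obtain rfl : w = z := c.eq_z hz2 hZz hw.1 hw1
  set s := h * w * h⁻¹ with hsdef
  have hinvE : ∀ t ∈ (S : Subgroup G), t * t = 1 → t ∈ centralizer (E : Set G) → t ∈ E := fun t ht ht2 htE =>
    by_contra fun hn => hno t (covered_of_four hE hES h4.ge ht ht2 htE hn)
  -- a conjugate of `z` among the other involutions of `E`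
  obtain ⟨u, hu, huz⟩ : ∃ u : G, u * w * u⁻¹ ∈ E ∧ u * w * u⁻¹ ≠ w := by
    have hs2 : orderOf s = 2 := by rw [hsdef, Invol.orderOf_conj_eq]; exact hz2
    by_cases hsE : s ∈ centralizer (E : Set G)
    · exact ⟨h, hinvE s hhS (Invol.inv_mul_self hs2) hsE, fun e => hhZ (hsdef ▸ e.symm ▸ hw.1)⟩
    obtain ⟨h1, h2⟩ := c.mirror hz hz2 hZz hES hSE hE h4 hzE hnc rfl hhS hsE (hno s)
    refine ⟨h⁻¹, ?_, fun e => ?_⟩
    · rw [inv_inv]
      refine hinvE _ h1 ?_ h2
      rw [show h⁻¹ * w * h * (h⁻¹ * w * h) = h⁻¹ * (w * w) * h by group, zee_sq hz]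
      group
    · apply hhZ
      rw [inv_inv] at e
      rw [hsdef, show h * w * h⁻¹ = h * (h⁻¹ * w * h) * h⁻¹ by rw [e], show h * (h⁻¹ * w * h) * h⁻¹ = w by group]
      exact hw.1
  obtain ⟨x, hx, hxE⟩ : ∃ x ∈ (S : Subgroup G), x ∉ centralizer (E : Set G) := by
    by_contra hall
    push Not at hall
    apply huz
    refine c.eq_z hz2 hZz (mem_zee (hES hu) ?_ fun x hx => (mem_centralizer_iff.1 (hall x hx) _ hu).symm)
      fun e => Invol.ne_one hz2 (conj_eq_one_iff.1 e)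
    rw [← pow_two]
    exact hE.2 _ hu
  set e := u * w * u⁻¹ with hedef
  have he1 : e ≠ 1 := fun h' => Invol.ne_one hz2 (conj_eq_one_iff.1 h')
  have hez : w * e ≠ 1 := fun h' => huz (by rw [← inv_eq_of_mul_eq_one_right h', Invol.inv_eq_self hz2])
  have hswap := c.swap_e hz hz2 hZz hSE hE h4 hzE hu he1 huz hx hxE
  refine c.outcome_of trivial fun _ => c.oneClass hz hzH hz2 (c.centralizer_z_le hz hZz)
    (c.normalizer_le_z hz hz2 hZz) (c.zee_le_residual hzH hZz) fun t ht ht2 => ?_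
  obtain ⟨g, -, hQ⟩ := transfer
    (Q := ((S : Subgroup G) ⊓ pResidual 2 G) ⊓ centralizer (E : Set G)) inf_le_left
    (c.relIndex_inf_centralizer hz hz2 hZz hSE hE h4 hzE inf_le_left) ht ht2
  have ho : orderOf (g * t * g⁻¹) = 2 := by rw [Invol.orderOf_conj_eq]; exact ht2
  have hmem := hinvE _ hQ.1.1 (Invol.inv_mul_self ho) hQ.2
  rcases four_cases h4 hzE hu (mul_mem hzE hu) hmem (Ne.symm huz) (fun h' => he1 (left_eq_mul.1 h'))
      (fun h' => Invol.ne_one hz2 (right_eq_mul.1 h')) (Invol.ne_one hz2) he1 hez with h' | h' | h' | h'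
  · exact absurd h' (Invol.ne_one ho)
  · exact ⟨g⁻¹, by rw [← h']; group⟩
  · refine ⟨g⁻¹ * u, ?_⟩
    calc g⁻¹ * u * w * (g⁻¹ * u)⁻¹ = g⁻¹ * e * g := by rw [hedef]; group
      _ = t := by rw [← h']; group
  · refine ⟨g⁻¹ * x * u, ?_⟩
    calc g⁻¹ * x * u * w * (g⁻¹ * x * u)⁻¹ = g⁻¹ * (x * e * x⁻¹) * g := by rw [hedef]; group
      _ = g⁻¹ * (g * t * g⁻¹) * g := by rw [hswap, h']
      _ = t := by group

omit hz hzH hz2 hZz hES hSE hE h4 hzE in
theorem reduction : Outcome S := by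
  haveI : Fact (Nat.Prime 2) := ⟨Nat.prime_two⟩
  obtain ⟨z, hz, hzH, hz2⟩ := c.exists_z
  by_cases h4 : 4 ≤ Nat.card ↥(zee S)
  · exact c.large h4
  have hZz := zee_card_ne hz hz2 (Nat.lt_of_not_le h4)
  by_cases hnc : ∀ a ∈ (S : Subgroup G), ¬ (zpowers a).relIndex (S : Subgroup G) ≤ 2
  swap
  · push Not at hnc
    obtain ⟨a, ha, ha2⟩ := hnc
    exact c.cyclic hz hzH hz2 hZz ha ha2
  obtain ⟨E', hE'n, hE'e, hE'4⟩ : ∃ E : Subgroup ↥(S : Subgroup G),
      E.Normal ∧ IsElementaryAbelian 2 E ∧ Nat.card E = 2 ^ 2 := by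
    by_contra hno
    obtain ⟨a, -, h | ⟨-, _, _, -, -, -, -, h⟩⟩ :=
      PGroup.NormalSq.cyclic_or_three_mod_four S.isPGroup' hno
    · exact hnc a a.2 (by rw [relIndex_zpowers_eq, h, index_top]; norm_num)
    · exact hnc a a.2 (by rw [relIndex_zpowers_eq, h])
  set E := E'.map (S : Subgroup G).subtype with hEdef
  haveI := hE'n
  have hE : IsElementaryAbelian 2 E := ⟨⟨⟨by
      rintro ⟨_, p, hp, rfl⟩ ⟨_, q, hq, rfl⟩
      exact Subtype.ext (((elementary_commute hE'e hp hq).map (S : Subgroup G).subtype).eq)⟩⟩, by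
      rintro _ ⟨p, hp, rfl⟩
      rw [← map_pow, hE'e.2 p hp, map_one]⟩
  have hc4 : Nat.card E = 4 := by
    rw [hEdef, card_map_of_injective (S : Subgroup G).subtype_injective, hE'4]
    norm_num
  have hES : E ≤ (S : Subgroup G) := map_subtype_le _
  have hSE : (S : Subgroup G) ≤ normalizer (E : Set G) := fun x hx => mem_normalizer_fintype fun y hy => by
    obtain ⟨q, hq, rfl⟩ := hy
    exact ⟨⟨x, hx⟩ * q * ⟨x, hx⟩⁻¹, hE'n.conj_mem q hq _, rfl⟩
  have hzE : z ∈ E := by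
    have hne' := PGroup.inf_center_ne_bot S.isPGroup' (N := E') (fun h => by
      rw [h, card_bot] at hE'4
      norm_num at hE'4)
    obtain ⟨w, hw, hw2, -⟩ := exists_central_involution
      (S.isPGroup'.to_subgroup (E' ⊓ center ↥(S : Subgroup G))) hne'
    have ho : orderOf (w : G) = 2 := by rw [orderOf_coe]; exact hw2
    have := c.eq_z hz2 hZz (mem_zee w.2 (Invol.inv_mul_self ho) fun x hx =>
      congrArg Subtype.val (mem_center_iff.1 hw.2 ⟨x, hx⟩)) (Invol.ne_one ho)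
    exact this ▸ mem_map_of_mem _ hw.1
  by_cases h8 : ∃ B : Subgroup G, B ≤ (S : Subgroup G) ∧ IsElementaryAbelian 2 B ∧ 8 ≤ Nat.card B
  · obtain ⟨B, hBS, hB, h8⟩ := h8
    exact c.rankThree hz hzH hz2 hZz hES hSE hE hc4 hzE hnc hBS hB h8
  · exact c.noEight hz hzH hz2 hZz hES hSE hE hc4 hzE hnc fun t ⟨B, h1, h2, h3, _⟩ => h8 ⟨B, h1, h2, h3⟩

end Setting

end Cfsg.Lib.Local.ZN
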