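import Cfsg.Agent.Lib.Core.Basic
import Mathlib.GroupTheory.Transfer
import Mathlib.GroupTheory.PGroup

/-!
Transfer of an involution `z` into a subgroup `U` containing a 2-group `T` centralizing `z` that has a
single fixed point on the cosets of `U`.
-/

set_option autoImplicit false
set_option linter.style.haveILetI false

namespace Cfsg.Lib.Local.ZN

open Subgroup MulAction

variable {G : Type*} [Group G] [Finite G]

theorem transfer_unique_fixed {A : Type*} [CommGroup A] {T U : Subgroup G} (hT : IsPGroup 2 T) (hTU : T ≤ U)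
    {z : G} (hzU : z ∈ U) (hz2 : z * z = 1) (hzT : ∀ x ∈ T, x * z = z * x)
    (huniq : ∀ a : G, (∀ x ∈ T, a⁻¹ * x * a ∈ U) → a ∈ U) (φ : ↥U →* A) :
    MonoidHom.transfer φ z = φ ⟨z, hzU⟩ := by
  classical
  haveI : Fact (Nat.Prime 2) := ⟨Nat.prime_two⟩
  letI := U.fintypeQuotientOfFiniteIndex
  have hmem : ∀ (a : G), z • (a : G ⧸ U) = (a : G ⧸ U) → a⁻¹ * z * a ∈ U := by
    intro a ha
    rw [MulAction.Quotient.smul_coe, smul_eq_mul] at ha
    have := inv_mem (QuotientGroup.eq.mp ha)
    simpa [mul_assoc] using this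
  let f : G ⧸ U → A := fun c =>
    if h : z • c = c then φ ⟨c.out⁻¹ * z * c.out, hmem _ (by rw [QuotientGroup.out_eq']; exact h)⟩ else 1
  have hrep : ∀ (a : G) (h : z • (a : G ⧸ U) = (a : G ⧸ U)), f a = φ ⟨a⁻¹ * z * a, hmem a h⟩ := by
    intro a h
    simp only [f, dif_pos h]
    obtain ⟨s, hs⟩ := QuotientGroup.mk_out_eq_mul U a
    have he : (⟨(QuotientGroup.mk a : G ⧸ U).out⁻¹ * z * (QuotientGroup.mk a : G ⧸ U).out,
        hmem _ (by rw [QuotientGroup.out_eq']; exact h)⟩ : ↥U) = s⁻¹ * ⟨a⁻¹ * z * a, hmem a h⟩ * s := by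
      apply Subtype.ext
      simp only [hs, Subgroup.coe_mul, Subgroup.coe_inv]
      group
    rw [he, map_mul, map_mul, map_inv, mul_comm, mul_inv_cancel_left]
  have hsq : ∀ c, f c * f c = 1 := by
    intro c
    simp only [f]
    split
    · rw [← map_mul]
      convert map_one φ
      apply Subtype.ext
      show c.out⁻¹ * z * c.out * (c.out⁻¹ * z * c.out) = 1
      calc c.out⁻¹ * z * c.out * (c.out⁻¹ * z * c.out) = c.out⁻¹ * (z * z) * c.out := by group
        _ = 1 := by rw [hz2]; group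
    · exact one_mul 1
  have hinv : ∀ (x : ↥T) (c : G ⧸ U), f (x • c) = f c := by
    intro x c
    obtain ⟨a, rfl⟩ := QuotientGroup.mk_surjective c
    have hzx : z * (x : G) = (x : G) * z := (hzT x x.2).symm
    have e : (x • (a : G ⧸ U)) = (((x : G) * a : G) : G ⧸ U) := rfl
    rw [e]
    have hiff : z • (((x : G) * a : G) : G ⧸ U) = (((x : G) * a : G) : G ⧸ U) ↔
        z • (a : G ⧸ U) = (a : G ⧸ U) := by
      rw [MulAction.Quotient.smul_coe, smul_eq_mul, ← mul_assoc, hzx, mul_assoc, ← smul_eq_mul,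
        ← MulAction.Quotient.smul_coe, ← smul_eq_mul z a, ← MulAction.Quotient.smul_coe,
        ← smul_eq_mul (x : G) a, ← MulAction.Quotient.smul_coe]
      exact ⟨fun h => MulAction.injective (x : G) h, fun h => by rw [h]⟩
    by_cases h : z • (a : G ⧸ U) = (a : G ⧸ U)
    · rw [hrep _ (hiff.2 h), hrep _ h]
      refine congrArg φ (Subtype.ext ?_)
      show ((x : G) * a)⁻¹ * z * ((x : G) * a) = a⁻¹ * z * a
      calc ((x : G) * a)⁻¹ * z * ((x : G) * a) = a⁻¹ * ((x : G)⁻¹ * (z * (x : G))) * a := by group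
        _ = a⁻¹ * z * a := by rw [hzx, inv_mul_cancel_left]
    · simp only [f, dif_neg h, dif_neg (mt hiff.1 h)]
  have h1 : f ((1 : G) : G ⧸ U) = φ ⟨z, hzU⟩ := by
    rw [hrep 1 (by
      rw [MulAction.Quotient.smul_coe, smul_eq_mul, mul_one]
      exact QuotientGroup.eq.2 (by simpa using inv_mem hzU))]
    exact congrArg φ (Subtype.ext (by simp))
  -- the product over all cosets
  have hprod : ∏ c, f c = φ ⟨z, hzU⟩ := by
    have hfix : ∀ c : G ⧸ U, c ∈ fixedPoints ↥T (G ⧸ U) → c = ((1 : G) : G ⧸ U) := by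
      intro c hc
      obtain ⟨a, rfl⟩ := QuotientGroup.mk_surjective c
      refine QuotientGroup.eq.2 ?_
      simpa using huniq a fun x hx => by
        have h1 : (((x * a : G)) : G ⧸ U) = (a : G ⧸ U) := hc ⟨x, hx⟩
        simpa [mul_assoc] using inv_mem (QuotientGroup.eq.mp h1)
    rw [show (∏ c, f c) = ∏ c, id (f c) from rfl, Finset.prod_comp]
    have hfiber : ∀ v : A, (v = φ ⟨z, hzU⟩ → Odd (Finset.univ.filter fun c => f c = v).card) ∧
        (v ≠ φ ⟨z, hzU⟩ → Even (Finset.univ.filter fun c => f c = v).card) := by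
      intro v
      let B : SubMulAction ↥T (G ⧸ U) :=
        { carrier := {c | f c = v}
          smul_mem' := fun x c hc => (hinv x c).trans hc }
      have hcard : (Finset.univ.filter fun c => f c = v).card = Nat.card B := by
        rw [← Fintype.card_subtype, ← Nat.card_eq_fintype_card]
        rfl
      have hmod := hT.card_modEq_card_fixedPoints B
      refine ⟨fun hv => ?_, fun hv => ?_⟩
      · have hone : Nat.card (fixedPoints ↥T B) = 1 := by
          refine Nat.card_eq_one_iff_unique.2 ⟨⟨fun a b => ?_⟩, ?_⟩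
          · exact Subtype.ext (Subtype.ext ((hfix _ fun x => congrArg Subtype.val (a.2 x)).trans
              (hfix _ fun x => congrArg Subtype.val (b.2 x)).symm))
          · refine ⟨⟨⟨((1 : G) : G ⧸ U), h1.trans hv.symm⟩, fun x => Subtype.ext ?_⟩⟩
            show ((((x : G) * 1 : G)) : G ⧸ U) = ((1 : G) : G ⧸ U)
            exact QuotientGroup.eq.2 (by simpa using inv_mem (hTU x.2))
        rw [hone] at hmod
        rw [hcard, Nat.odd_iff]
        exact hmod
      · have hzero : Nat.card (fixedPoints ↥T B) = 0 := by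
          refine Nat.card_eq_zero.2 (Or.inl ⟨fun a => hv ?_⟩)
          have e := hfix _ fun x => congrArg Subtype.val (a.2 x)
          rw [← (a.1).2, show (a.1 : G ⧸ U) = _ from e]
          exact h1
        rw [hzero] at hmod
        rw [hcard, Nat.even_iff]
        exact hmod
    rw [Finset.prod_eq_single (φ ⟨z, hzU⟩)]
    · obtain ⟨j, hj⟩ := (hfiber _).1 rfl
      rw [hj, id, pow_succ, pow_mul, pow_two, ← h1, hsq, one_pow, one_mul]
    · intro v hv hvne
      obtain ⟨c, -, rfl⟩ := Finset.mem_image.1 hv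
      obtain ⟨j, hj⟩ := (hfiber _).2 hvne
      rw [hj, id, ← two_mul, pow_mul, pow_two, hsq, one_pow]
    · intro h
      exact absurd (Finset.mem_image.2 ⟨_, Finset.mem_univ _, h1⟩) h
  rw [MonoidHom.transfer_eq_prod_quotient_orbitRel_zpowers_quot]
  have hterm : ∀ q : Quotient (orbitRel (zpowers z) (G ⧸ U)),
      φ ⟨q.out.out⁻¹ * z ^ Function.minimalPeriod (z • ·) q.out * q.out.out,
        QuotientGroup.out_conj_pow_minimalPeriod_mem U z q.out⟩ = f q.out := by
    intro q
    have hper : Function.IsPeriodicPt (fun c : G ⧸ U => z • c) 2 q.out := by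
      show z • z • q.out = q.out
      rw [smul_smul, hz2, one_smul]
    rcases (Nat.dvd_prime Nat.prime_two).mp hper.minimalPeriod_dvd with h | h
    · have hfix' : z • q.out = q.out := Function.minimalPeriod_eq_one_iff_isFixedPt.mp h
      simp only [f, dif_pos hfix', h, pow_one]
    · have hnf : ¬ z • q.out = q.out := fun h' => by
        rw [Function.minimalPeriod_eq_one_iff_isFixedPt.mpr h'] at h
        omega
      simp only [f, dif_neg hnf, h, pow_two, hz2, mul_one, inv_mul_cancel]
      exact map_one φ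
  rw [Finset.prod_congr rfl (fun q _ => hterm q), ← hprod]
  refine Finset.prod_bij_ne_one (fun q _ _ => q.out) (fun _ _ _ => Finset.mem_univ _)
    (fun q₁ _ _ q₂ _ _ h => Quotient.out_injective h) ?_ (fun _ _ _ => rfl)
  intro c _ hc
  have hfx : z • c = c := by_contra fun h => hc (dif_neg h)
  have hout : (⟦c⟧ : Quotient (orbitRel (zpowers z) (G ⧸ U))).out = c := by
    obtain ⟨⟨u, k, rfl⟩, hu⟩ := Quotient.mk_out (s := orbitRel (zpowers z) (G ⧸ U)) c
    rw [← hu]
    show z ^ k • c = c
    exact mem_stabilizer_iff.mp ((MulAction.stabilizer G c).zpow_mem (mem_stabilizer_iff.mpr hfx) k)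
  exact ⟨⟦c⟧, Finset.mem_univ _, by rw [hout]; exact hc, hout⟩

end Cfsg.Lib.Local.ZN
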