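import Cfsg.Agent.Lib.Local.JComp.Shape
import Cfsg.Agent.Lib.Local.ZN.Transfer

/-!
# Two linked components inside the subgroup generated by the elements of odd order
-/

set_option autoImplicit false
set_option linter.style.haveILetI false

namespace Cfsg.Lib.Local.ZN

open Subgroup Cfsg Cfsg.Lib Cfsg.Lib.Local.GlaubermanZJ Cfsg.Lib.Local.JComp

universe u

variable {G : Type u} [Group G] [Finite G] {T K₁ K₂ L₁ L₂ : Subgroup G}

omit [Finite G] in
/-- The subgroup generated by the elements of odd order. -/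
abbrev oddGen (G : Type u) [Group G] : Subgroup G := Subgroup.closure {g : G | Odd (orderOf g)}

theorem comp_le_oddGen {K : Subgroup G} (hK : IsJComponent T K) : K ≤ oddGen G := by
  conv_lhs => rw [← hK.1]
  exact Subgroup.closure_mono fun g hg => hg.2

theorem W_le_oddGen {K : Subgroup G} (hK : IsJComponent T K) : wOf K ≤ oddGen G :=
  W_le.trans (comp_le_oddGen hK)

theorem odd_mem_of_sup {K : Subgroup G} (hT : IsPGroup 2 T) (hTK : T ≤ normalizer (K : Set G)) {g : G}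
    (hg : g ∈ K ⊔ T) (ho : Odd (orderOf g)) : g ∈ K := by
  haveI : Fact (Nat.Prime 2) := ⟨Nat.prime_two⟩
  haveI : (K.subgroupOf (K ⊔ T)).Normal :=
    (normal_subgroupOf_iff_le_normalizer le_sup_left).2 (sup_le le_normalizer hTK)
  have h1 := Core.card_mul_relIndex (le_sup_left : K ≤ K ⊔ T)
  have h2 := card_sup_mul_card_inf' hTK
  have hdvd : K.relIndex (K ⊔ T) ∣ Nat.card T := by
    refine Dvd.intro (Nat.card ↥(K ⊓ T)) ?_
    apply Nat.eq_of_mul_eq_mul_left (Nat.card_pos (α := K))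
    rw [← mul_assoc, h1, h2]
  obtain ⟨m, hm⟩ := IsPGroup.iff_card.1 hT
  obtain ⟨i, -, hi⟩ := (Nat.dvd_prime_pow Nat.prime_two).1 (hm ▸ hdvd)
  have hp : g ^ (2 ^ i) ∈ K := by
    have h := Subgroup.pow_index_mem (K.subgroupOf (K ⊔ T)) (⟨g, hg⟩ : ↥(K ⊔ T))
    rw [show (K.subgroupOf (K ⊔ T)).index = 2 ^ i from hi] at h
    exact h
  obtain ⟨j, hj⟩ := exists_pow_eq_self_of_coprime (n := 2 ^ i) (x := g)
    ((Nat.coprime_two_left.2 ho).pow_left i)
  rw [← hj]
  exact K.pow_mem hp j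

section

variable (k : Linked T K₁ L₁ K₂ L₂)
include k

theorem exists_v : ∃ v ∈ wOf K₂, v ∉ Subgroup.centralizer (wOf K₁ : Set G) :=
  SetLike.not_le_iff_exists.1 k.not_commute

theorem T_cases {v t : G} (hv : v ∈ wOf K₂) (hvW : v ∉ Subgroup.centralizer (wOf K₁ : Set G)) (ht : t ∈ T) :
    t ∈ CT T K₁ ∨ v⁻¹ * t ∈ CT T K₁ := by
  by_cases htW : t ∈ Subgroup.centralizer (wOf K₁ : Set G)
  · exact Or.inl ⟨ht, htW⟩
  · exact Or.inr ⟨T.mul_mem (T.inv_mem (k.right.W_le hv)) ht,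
      T_mul_mem k.left.isPGroup k.left.comp k.left.norm (k.right.W_le hv) ht hvW htW⟩

theorem T_eq : T = (wOf K₁ ⊔ wOf K₂) ⊔ Hof T K₁ := by
  refine le_antisymm (fun t ht => ?_)
    (sup_le (sup_le k.left.W_le k.right.W_le) fun h hh => (k.left.Hof_central hh).1)
  obtain ⟨v, hv, hvW⟩ := exists_v k
  have hle : CT T K₁ ≤ (wOf K₁ ⊔ wOf K₂) ⊔ Hof T K₁ := by
    rw [k.CT_eq]
    exact sup_le (le_sup_left.trans le_sup_left) le_sup_right
  rcases T_cases k hv hvW ht with h | h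
  · exact hle h
  · have := mul_mem (show v ∈ (wOf K₁ ⊔ wOf K₂) ⊔ Hof T K₁ from mem_sup_left (mem_sup_right hv)) (hle h)
    rwa [mul_inv_cancel_left] at this

theorem central_of_inf {x t : G} (hx : x ∈ CT T K₁ ⊓ CT T K₂) (ht : t ∈ T) : Commute t x := by
  have h : T ≤ Subgroup.centralizer ({x} : Set G) := by
    conv_lhs => rw [T_eq k]
    refine sup_le (sup_le (fun w hw => ?_) fun w hw => ?_) fun h hh => ?_ <;>
      refine mem_centralizer_singleton_iff.2 ?_
    · exact mem_centralizer_iff.1 hx.1.2 w hw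
    · exact mem_centralizer_iff.1 hx.2.2 w hw
    · exact (mem_centralizer_iff.1 (k.left.Hof_central hh).2 x hx.1.1).symm
  exact mem_centralizer_singleton_iff.1 (h ht)

/-- Elements centralizing both four-groups lie in `Ω₁(Z(J(T)))`. -/
theorem inf_le_Z0 : CT T K₁ ⊓ CT T K₂ ≤ Z0 T := by
  intro x hx
  have s₁ := k.left
  obtain ⟨v, hv, hvW⟩ := exists_v k
  have hx1 := hx.1
  rw [k.CT_eq] at hx1
  obtain ⟨w, hw, h, hh, rfl⟩ := (Core.mem_sup_of_le_normalizer
    (s₁.W_le.trans s₁.T_le_normalizer_Hof)).1 hx1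
  have hwv : Commute v w := by
    have h1 : Commute v (w * h) := central_of_inf k hx (k.right.W_le hv)
    have h2 : Commute v h := mem_centralizer_iff.1 (s₁.Hof_central hh).2 v (k.right.W_le hv)
    simpa using h1.mul_right h2.inv_right
  exact mul_mem (fixed_le_Z0 s₁.isPGroup s₁.comp
    (T_fixed s₁.isPGroup s₁.comp s₁.norm (k.right.W_le hv) hvW hw hwv)) hh.1

theorem Z0_le_inf : Z0 T ≤ CT T K₁ ⊓ CT T K₂ := fun x hx =>
  ⟨⟨Z0_le hx, mem_centralizer_iff.2 fun w hw => (k.left.Z0_central (k.left.W_le hw) hx).eq⟩,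
    ⟨Z0_le hx, mem_centralizer_iff.2 fun w hw => (k.left.Z0_central (k.right.W_le hw) hx).eq⟩⟩

theorem card_D : Nat.card ↥(wOf K₁ ⊔ wOf K₂) = 8 := by
  obtain ⟨s, hs1, hs₁, hs₂⟩ := k.fixed_common k.not_commute
  have hN : wOf K₂ ≤ normalizer (wOf K₁ : Set G) :=
    k.right.W_le.trans (k.left.norm.trans normalizer_le_normalizer_W)
  have h := card_sup_mul_card_inf' hN
  rw [k.left.comp.2.2.2.2.1, k.right.comp.2.2.2.2.1] at h
  have h2 : 2 ≤ Nat.card ↥(wOf K₁ ⊓ wOf K₂) := by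
    haveI : Nontrivial ↥(wOf K₁ ⊓ wOf K₂) :=
      ⟨⟨⟨s, hs₁.1, hs₂.1⟩, 1, fun e => hs1 (congrArg Subtype.val e)⟩⟩
    exact Finite.one_lt_card
  have hd := card_dvd_of_le (inf_le_left : wOf K₁ ⊓ wOf K₂ ≤ wOf K₁)
  rw [k.left.comp.2.2.2.2.1] at hd
  have h4 : Nat.card ↥(wOf K₁ ⊓ wOf K₂) ≠ 4 := by
    intro e
    have he := eq_of_le_of_card_ge (inf_le_left : wOf K₁ ⊓ wOf K₂ ≤ wOf K₁)
      (by rw [e, k.left.comp.2.2.2.2.1])
    refine k.not_commute fun w hw => mem_centralizer_iff.2 fun x hx => ?_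
    exact (W_commute (he.ge.trans inf_le_right hx) hw).eq
  have := Nat.le_of_dvd (by norm_num) hd
  interval_cases hc : Nat.card ↥(wOf K₁ ⊓ wOf K₂) <;> omega

theorem card_T_eq : Nat.card T = 8 * Nat.card ↥(Hof T K₁) := by
  rw [k.left.card_T, k.card_CT]
  ring

theorem D_inf_Hof : (wOf K₁ ⊔ wOf K₂) ⊓ Hof T K₁ = ⊥ := by
  have hN : Hof T K₁ ≤ normalizer ((wOf K₁ ⊔ wOf K₂ : Subgroup G) : Set G) := fun h hh =>
    mem_normalizer_fintype fun x hx => by
      rw [← mem_centralizer_iff.1 (k.left.Hof_central hh).2 x (sup_le k.left.W_le k.right.W_le hx),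
        mul_inv_cancel_right]
      exact hx
  have h := card_sup_mul_card_inf' hN
  rw [← T_eq k, card_D k, card_T_eq k] at h
  exact card_eq_one.1 (Nat.eq_of_mul_eq_mul_left (Nat.mul_pos (by norm_num) Nat.card_pos)
    (h.trans (mul_one _).symm))

/-- Commutators of elements of `T` are fixed points in `W₁`. -/
theorem comm_mem_fixed {a b : G} (ha : a ∈ T) (hb : b ∈ T) :
    a * b * a⁻¹ * b⁻¹ ∈ wOf K₁ ⊓ Subgroup.centralizer (thompsonSubgroupOf 2 T : Set G) := by
  have s₁ := k.left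
  obtain ⟨v, hv, hvW⟩ := exists_v k
  set R := wOf K₁ ⊓ Subgroup.centralizer (thompsonSubgroupOf 2 T : Set G) with hR
  have h1 : ∀ t ∈ T, ∀ c ∈ CT T K₁, t * c * t⁻¹ * c⁻¹ ∈ R := by
    intro t ht c hc
    rw [k.CT_eq] at hc
    obtain ⟨w, hw, h, hh, rfl⟩ := (Core.mem_sup_of_le_normalizer
      (s₁.W_le.trans s₁.T_le_normalizer_Hof)).1 hc
    have e : Commute t h := mem_centralizer_iff.1 (s₁.Hof_central hh).2 t ht
    rw [show t * (w * h) * t⁻¹ * (w * h)⁻¹ = t * w * t⁻¹ * (t * h * t⁻¹ * h⁻¹) * w⁻¹ by group,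
      e.eq, mul_inv_cancel_right, mul_inv_cancel, mul_one]
    exact T_comm_mem s₁.isPGroup s₁.comp s₁.norm ht hw
  by_cases hbC : b ∈ CT T K₁
  · exact h1 a ha b hbC
  by_cases haC : a ∈ CT T K₁
  · have h := inv_mem (h1 b hb a haC)
    rwa [show (b * a * b⁻¹ * a⁻¹)⁻¹ = a * b * a⁻¹ * b⁻¹ by group] at h
  have hc : a⁻¹ * b ∈ CT T K₁ := ⟨T.mul_mem (T.inv_mem ha) hb,
    T_mul_mem s₁.isPGroup s₁.comp s₁.norm ha hb (fun h => haC ⟨ha, h⟩) fun h => hbC ⟨hb, h⟩⟩
  have h := h1 a ha _ hc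
  have e : Commute a (a * (a⁻¹ * b) * a⁻¹ * (a⁻¹ * b)⁻¹) := T_commute_fixed s₁.isPGroup s₁.comp s₁.norm ha h
  rw [show a * b * a⁻¹ * b⁻¹ = a * (a * (a⁻¹ * b) * a⁻¹ * (a⁻¹ * b)⁻¹) * a⁻¹ by group, e.eq,
    mul_inv_cancel_right]
  exact h

theorem exists_noncommuting : ∃ a ∈ T, ∃ b ∈ T, a * b * a⁻¹ * b⁻¹ ≠ 1 := by
  obtain ⟨v, hv, hvW⟩ := exists_v k
  by_contra hc
  push Not at hc
  exact hvW (mem_centralizer_iff.2 fun w hw =>
    commutatorElement_eq_one_iff_mul_comm.1 (hc w (k.left.W_le hw) v (k.right.W_le hv)))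

end

section Two

variable (k : Linked T K₁ L₁ K₂ L₂) (h2 : Nat.card ↥(Hof T K₁) = 2)
include k h2

theorem card_Hof_right : Nat.card ↥(Hof T K₂) = 2 := by
  have := k.left.center_split.2
  have := k.right.center_split.2
  omega

theorem card_L : Nat.card L₁ = 48 := by
  obtain ⟨e⟩ := k.iso.2 h2
  rw [Nat.card_congr e.toEquiv, Nat.card_prod, Nat.card_perm, Nat.card_fin,
    Nat.card_congr (Multiplicative.toAdd (α := ZMod 2)), Nat.card_zmod]
  rfl

theorem L_inf_normalizer : L₁ ⊓ normalizer (T : Set G) = T := by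
  have hle : T ≤ L₁ ⊓ normalizer (T : Set G) := le_inf k.left.sylow.1 le_normalizer
  obtain ⟨m, hm⟩ := card_dvd_of_le hle
  obtain ⟨j, hj⟩ := card_dvd_of_le (inf_le_left : L₁ ⊓ normalizer (T : Set G) ≤ L₁)
  rw [card_L k h2, hm, card_T_eq k, h2] at hj
  have hmj : m ∣ 3 := Dvd.intro j (by linarith)
  rcases (Nat.dvd_prime Nat.prime_three).1 hmj with rfl | rfl
  · exact (eq_of_le_of_card_ge hle (by rw [hm, mul_one])).symm
  · exfalso
    have hL : L₁ ⊓ normalizer (T : Set G) = L₁ := eq_of_le_of_card_ge inf_le_left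
      (by rw [hm, card_L k h2, card_T_eq k, h2])
    have hT := le_pCoreOf k.left.sylow.1 (inf_eq_left.1 hL) k.left.isPGroup
    rw [k.core_L] at hT
    have := card_le_of_le hT
    rw [card_T_eq k, k.card_CT, h2] at this
    omega

theorem centralizer_Hof {h : G} (hh : h ∈ Hof T K₁) (hh1 : h ≠ 1) :
    Subgroup.centralizer ({h} : Set G) = L₁ := by
  refine le_antisymm (k.left.centralizer_le hh hh1) ?_
  rw [k.L_eq]
  refine sup_le (fun x hx => mem_centralizer_singleton_iff.2 (mem_centralizer_iff.1 hh.2 x hx)) ?_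
  exact fun t ht => mem_centralizer_singleton_iff.2 (mem_centralizer_iff.1 (k.left.Hof_central hh).2 t ht)

/-- `Ω₁(Z(J(T)))` has the four expected elements. -/
theorem Z0_cases {h r x : G} (hh : h ∈ Hof T K₁) (hh1 : h ≠ 1)
    (hr : r ∈ wOf K₁ ⊓ Subgroup.centralizer (thompsonSubgroupOf 2 T : Set G)) (hr1 : r ≠ 1) (hx : x ∈ Z0 T) :
    x = 1 ∨ x = r ∨ x = h ∨ x = r * h := by
  have s₁ := k.left
  have hx' := s₁.center_split.1.ge hx
  rw [sup_comm] at hx'
  obtain ⟨r', hr', h', hh', rfl⟩ := (Core.mem_sup_of_le_normalizer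
    ((inf_le_left.trans s₁.W_le).trans s₁.T_le_normalizer_Hof)).1 hx'
  have e1 : r' = 1 ∨ r' = r := or_iff_not_imp_left.2 (fixed_unique s₁.isPGroup s₁.comp hr hr1 hr')
  have e2 : h' = 1 ∨ h' = h := by
    obtain ⟨c, hc⟩ := (Nat.card_eq_two_iff' (1 : ↥(Hof T K₁))).1 h2
    refine or_iff_not_imp_left.2 fun hne => ?_
    have e1 := hc.2 ⟨h, hh⟩ fun e => hh1 (congrArg Subtype.val e)
    exact congrArg Subtype.val ((hc.2 ⟨h', hh'⟩ fun e => hne (congrArg Subtype.val e)).trans e1.symm)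
  rcases e1 with rfl | rfl <;> rcases e2 with rfl | rfl <;> simp

theorem fixed_conj {n r : G} (hn : n ∈ normalizer (T : Set G))
    (hr : r ∈ wOf K₁ ⊓ Subgroup.centralizer (thompsonSubgroupOf 2 T : Set G)) : n * r * n⁻¹ = r := by
  have s₁ := k.left
  obtain ⟨a, ha, b, hb, hab⟩ := exists_noncommuting k
  have hc := comm_mem_fixed k ha hb
  rcases or_iff_not_imp_left.2 (fixed_unique s₁.isPGroup s₁.comp hc hab hr) with rfl | e
  · group
  have hc' := comm_mem_fixed k ((mem_normalizer_iff.1 hn a).1 ha) ((mem_normalizer_iff.1 hn b).1 hb)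
  have he : n * a * n⁻¹ * (n * b * n⁻¹) * (n * a * n⁻¹)⁻¹ * (n * b * n⁻¹)⁻¹ =
      n * (a * b * a⁻¹ * b⁻¹) * n⁻¹ := by group
  rw [he] at hc'
  rw [e]
  exact fixed_unique s₁.isPGroup s₁.comp hc hab hc' fun h => hab (conj_eq_one_iff.1 h)

/-- An element of `N(T)` outside `T` sends `Z(K₁ T)` to `Z(K₂ T)`. -/
theorem conj_Hof {n h : G} (hn : n ∈ normalizer (T : Set G)) (hnT : n ∉ T) (hh : h ∈ Hof T K₁) (hh1 : h ≠ 1) :
    n * h * n⁻¹ ∈ Hof T K₂ := by
  have s₁ := k.left
  obtain ⟨s, hs1, hs₁, hs₂⟩ := k.fixed_common k.not_commute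
  obtain ⟨c, hc⟩ := (Nat.card_eq_two_iff' (1 : ↥(Hof T K₂))).1 (card_Hof_right k h2)
  have hc1 : (c : G) ≠ 1 := fun e => hc.1 (Subtype.ext e)
  have hn' : n * h * n⁻¹ ∈ Z0 T := (mem_normalizer_iff.1
    (normalizer_J_le_Z0 (Thompson.normalizer_le_normalizer_thompsonSubgroupOf (p := 2) T hn)) h).1 hh.1
  have hne : n * h * n⁻¹ ≠ h := fun e => hnT ((L_inf_normalizer k h2).le
    ⟨(centralizer_Hof k h2 hh hh1).le (mem_centralizer_singleton_iff.2 (mul_inv_eq_iff_eq_mul.1 e)), hn⟩)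
  have e1 : n * h * n⁻¹ = s * h := by
    rcases Z0_cases k h2 hh hh1 hs₁ hs1 hn' with e | e | e | e
    · exact absurd (conj_eq_one_iff.1 e) hh1
    · refine absurd (mul_left_cancel (mul_right_cancel (e.trans (fixed_conj k h2 hn hs₁).symm))) fun e => ?_
      exact hs1 (mem_bot.1 ((Linked.W_inf_Hof s₁.comp).le ⟨hs₁.1, e ▸ hh⟩))
    · exact absurd e hne
    · exact e
  rw [e1]
  rcases Z0_cases k h2 hh hh1 hs₁ hs1 c.2.1 with e | e | e | e
  · exact absurd e hc1
  · exact absurd (mem_bot.1 ((Linked.W_inf_Hof k.right.comp).le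
      ⟨e ▸ hs₂.1, c.2⟩)) hc1
  · refine absurd (fun x hx => ?_) k.out
    refine (centralizer_Hof k h2 hh hh1).le (mem_centralizer_singleton_iff.2 ?_)
    have h := mem_centralizer_iff.1 c.2.2 x hx
    rwa [e] at h
  · exact e ▸ c.2

theorem conj_K_le {n : G} (hn : n ∈ normalizer (T : Set G)) (hnT : n ∉ T) :
    K₁.map (MulAut.conj n).toMonoidHom ≤ K₂ := by
  obtain ⟨⟨h, hh⟩, hh1⟩ := ne_bot_iff_exists_ne_one.1
    (fun e : Hof T K₁ = ⊥ => by rw [e, card_bot] at h2; omega)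
  have hh1' : h ≠ 1 := fun e => hh1 (Subtype.ext e)
  have h' := conj_Hof k h2 hn hnT hh hh1'
  have hC : K₁.map (MulAut.conj n).toMonoidHom ≤ L₂ := by
    rw [← centralizer_Hof k.symm (card_Hof_right k h2) h' fun e => hh1' (conj_eq_one_iff.1 e)]
    rintro _ ⟨x, hx, rfl⟩
    refine mem_centralizer_singleton_iff.2 ?_
    show (n * x * n⁻¹) * (n * h * n⁻¹) = (n * h * n⁻¹) * (n * x * n⁻¹)
    have e := mem_centralizer_iff.1 hh.2 x hx
    calc (n * x * n⁻¹) * (n * h * n⁻¹) = n * (x * h) * n⁻¹ := by group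
      _ = n * (h * x) * n⁻¹ := by rw [e]
      _ = _ := by group
  rw [k.symm.L_eq] at hC
  conv_lhs => rw [← k.left.comp.1]
  rw [MonoidHom.map_closure, Subgroup.closure_le]
  rintro _ ⟨x, hx, rfl⟩
  refine odd_mem_of_sup k.right.isPGroup k.right.norm (hC ⟨x, hx.1, rfl⟩) ?_
  show Odd (orderOf ((MulAut.conj n) x))
  rw [MulEquiv.orderOf_eq]
  exact hx.2

theorem conj_W {n : G} (hn : n ∈ normalizer (T : Set G)) (hnT : n ∉ T) :
    (wOf K₁).map (MulAut.conj n).toMonoidHom = wOf K₂ := by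
  rw [← wOf_map]
  congr 1
  refine eq_of_le_of_card_ge (conj_K_le k h2 hn hnT) ?_
  have h := conj_K_le k.symm (card_Hof_right k h2) hn hnT
  have h' := card_le_of_le h
  rw [BaumannBlock.card_map_mulEquiv] at h' ⊢
  exact h'

/-- The elementary abelian subgroups of order 8 of `N(T)` lie in `T`. -/
theorem eight_le {E : Subgroup G} (hE : E ≤ normalizer (T : Set G))
    (hsq : ∀ e ∈ E, e * e = 1) (hc : 8 ≤ Nat.card E) : E ≤ T := by
  intro x hx
  by_contra hxT
  have s₁ := k.left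
  obtain ⟨v, hv, hvW⟩ := exists_v k
  obtain ⟨⟨h, hh⟩, hh1⟩ := ne_bot_iff_exists_ne_one.1
    (fun e : Hof T K₁ = ⊥ => by rw [e, card_bot] at h2; omega)
  have hh1' : h ≠ 1 := fun e => hh1 (Subtype.ext e)
  obtain ⟨r, hr, hr1⟩ := fixed_exists s₁.isPGroup s₁.comp
  have hcm : ∀ a ∈ E, ∀ b ∈ E, a * b = b * a := fun a ha b hb => by
    have e3 := hsq _ (mul_mem ha hb)
    calc a * b = (a * b)⁻¹ := (inv_eq_of_mul_eq_one_right e3).symm
      _ = b⁻¹ * a⁻¹ := mul_inv_rev a b
      _ = b * a := by rw [inv_eq_of_mul_eq_one_right (hsq a ha), inv_eq_of_mul_eq_one_right (hsq b hb)]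
  -- the intersection with `T` is fixed by `x`
  have hfix : (E ⊓ T : Subgroup G) ≤ wOf K₁ ⊓ Subgroup.centralizer (thompsonSubgroupOf 2 T : Set G) := by
    intro c hc
    have hc2 := hsq c hc.1
    have hxc : x * c * x⁻¹ = c := by rw [hcm x hx c hc.1, mul_inv_cancel_right]
    have hor : c ∈ CT T K₁ ∨ c ∈ CT T K₂ := by
      refine or_iff_not_imp_left.2 fun hn => ⟨hc.2, ?_⟩
      rcases T_cases k hv hvW hc.2 with h' | h'
      · exact absurd h' hn
      set d := v⁻¹ * c with hd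
      have hd2 := k.CT_sq h'
      have hv2 : v * v = 1 := by rw [← pow_two]; exact W_pow hv
      have hvd : Commute v d := by
        have e : c = v * d := by rw [hd, mul_inv_cancel_left]
        rw [e] at hc2
        calc v * d = (v * d)⁻¹ := (inv_eq_of_mul_eq_one_right hc2).symm
          _ = d⁻¹ * v⁻¹ := mul_inv_rev v d
          _ = d * v := by rw [inv_eq_of_mul_eq_one_right hd2, inv_eq_of_mul_eq_one_right hv2]
      refine mem_centralizer_iff.2 fun w hw => ?_
      have hwd : Commute w d := by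
        rcases T_cases k hv hvW (k.right.W_le hw) with h'' | h''
        · exact k.CT_comm h'' h'
        · have := hvd.mul_left (k.CT_comm h'' h')
          rwa [mul_inv_cancel_left] at this
      rw [show c = v * d by rw [hd, mul_inv_cancel_left]]
      exact ((W_commute hw hv).mul_right hwd).eq
    have hswap : ∀ {A B A' B' : Subgroup G}, Linked T A A' B B' → Nat.card ↥(Hof T A) = 2 →
        c ∈ CT T A → c ∈ CT T B := by
      intro A B A' B' k' h2' hcA
      refine ⟨hc.2, mem_centralizer_iff.2 fun w hw => ?_⟩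
      rw [← conj_W k' h2' (hE hx) hxT] at hw
      obtain ⟨w', hw', rfl⟩ := hw
      show x * w' * x⁻¹ * c = c * (x * w' * x⁻¹)
      rw [← hxc]
      calc x * w' * x⁻¹ * (x * c * x⁻¹) = x * (w' * c) * x⁻¹ := by group
        _ = x * (c * w') * x⁻¹ := by rw [mem_centralizer_iff.1 hcA.2 w' hw']
        _ = _ := by group
    have hboth : c ∈ CT T K₁ ⊓ CT T K₂ := by
      rcases hor with h' | h'
      · exact ⟨h', hswap k h2 h'⟩
      · exact ⟨hswap k.symm (card_Hof_right k h2) h', h'⟩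
    have hxh : x * h * x⁻¹ ≠ h := fun e => hxT ((L_inf_normalizer k h2).le
      ⟨(centralizer_Hof k h2 hh hh1').le (mem_centralizer_singleton_iff.2 (mul_inv_eq_iff_eq_mul.1 e)), hE hx⟩)
    rcases Z0_cases k h2 hh hh1' hr hr1 (inf_le_Z0 k hboth) with rfl | rfl | rfl | rfl
    · exact one_mem _
    · exact hr
    · exact absurd hxc hxh
    · refine absurd ?_ hxh
      rw [show x * (r * h) * x⁻¹ = x * r * x⁻¹ * (x * h * x⁻¹) by group, fixed_conj k h2 (hE hx) hr] at hxc
      exact mul_left_cancel hxc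
  have h1 := (card_le_of_le hfix).trans (card_fixed s₁.isPGroup s₁.comp).le
  -- but it has order at least 4
  have hcov : (E : Set G) ⊆ ((E ⊓ T : Subgroup G) : Set G) ∪ (fun v => x * v) '' ((E ⊓ T : Subgroup G) : Set G) := by
    intro e he
    by_cases heT : e ∈ T
    · exact Or.inl ⟨he, heT⟩
    refine Or.inr ⟨x⁻¹ * e, ⟨E.mul_mem (E.inv_mem hx) he, ?_⟩, mul_inv_cancel_left x e⟩
    refine (L_inf_normalizer k h2).le ⟨(centralizer_Hof k h2 hh hh1').le
      (mem_centralizer_singleton_iff.2 ?_),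
        Subgroup.mul_mem _ (Subgroup.inv_mem _ (hE hx)) (hE he)⟩
    have a1 : e * h * e⁻¹ = x * h * x⁻¹ := by
      obtain ⟨c, hc⟩ := (Nat.card_eq_two_iff' (1 : ↥(Hof T K₂))).1 (card_Hof_right k h2)
      have i1 := hc.2 ⟨_, conj_Hof k h2 (hE he) heT hh hh1'⟩
        fun q => hh1' (conj_eq_one_iff.1 (congrArg Subtype.val q))
      have i2 := hc.2 ⟨_, conj_Hof k h2 (hE hx) hxT hh hh1'⟩
        fun q => hh1' (conj_eq_one_iff.1 (congrArg Subtype.val q))
      exact congrArg Subtype.val (i1.trans i2.symm)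
    calc x⁻¹ * e * h = x⁻¹ * (e * h * e⁻¹) * e := by group
      _ = h * (x⁻¹ * e) := by rw [a1]; group
  have h4 : (E : Set G).ncard ≤ 2 * ((E ⊓ T : Subgroup G) : Set G).ncard := by
    refine le_trans (Set.ncard_le_ncard hcov (Set.toFinite _)) (le_trans (Set.ncard_union_le _ _) ?_)
    have := Set.ncard_image_le (f := fun v => x * v) (s := ((E ⊓ T : Subgroup G) : Set G)) (Set.toFinite _)
    omega
  rw [show Nat.card E = (E : Set G).ncard from Nat.card_coe_set_eq _] at hc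
  rw [show Nat.card ↥(E ⊓ T) = ((E ⊓ T : Subgroup G) : Set G).ncard from Nat.card_coe_set_eq _] at h1
  omega

theorem mem_normalizer_of_conj_le {a : G} (ha : ∀ x ∈ T, a⁻¹ * x * a ∈ normalizer (T : Set G)) :
    a ∈ normalizer (T : Set G) := by
  have key : ∀ {A B A' B' : Subgroup G}, Linked T A A' B B' → Nat.card ↥(Hof T A) = 2 →
      (CT T A).map (MulAut.conj a⁻¹).toMonoidHom ≤ T := by
    intro A B A' B' k' h2'
    refine eight_le k h2 ?_ ?_ (by rw [BaumannBlock.card_map_mulEquiv, k'.card_CT, h2'])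
    · rintro _ ⟨x, hx, rfl⟩
      simpa using ha x hx.1
    · rintro _ ⟨x, hx, rfl⟩
      rw [← map_mul, k'.CT_sq hx, map_one]
  have hle : T.map (MulAut.conj a⁻¹).toMonoidHom ≤ T := by
    refine le_trans (map_mono ?_) ((Subgroup.map_sup _ _ _).le.trans (sup_le (key k h2)
      (key k.symm (card_Hof_right k h2))))
    conv_lhs => rw [T_eq k]
    refine sup_le (sup_le (k.left.W_le_CT.trans le_sup_left) (k.right.W_le_CT.trans le_sup_right)) ?_
    rw [k.CT_eq]
    exact le_sup_right.trans le_sup_left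
  have h' : a⁻¹ ∈ normalizer (T : Set G) := Core.mem_normalizer_iff_map_conj.2
    (eq_of_le_of_card_ge hle (by rw [BaumannBlock.card_map_mulEquiv]))
  simpa using inv_mem h'

theorem Hof_not_oddGen {h : G} (hh : h ∈ Hof T K₁) (hh1 : h ≠ 1) : h ∉ oddGen G := by
  haveI : Fact (Nat.Prime 2) := ⟨Nat.prime_two⟩
  set U := normalizer (T : Set G) with hU
  set D := wOf K₁ ⊔ wOf K₂ with hD
  have hTU : T ≤ U := le_normalizer
  have hWN : ∀ t ∈ T, ∀ {A : Subgroup G}, T ≤ normalizer (A : Set G) →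
      (wOf A).map (MulAut.conj t).toMonoidHom = wOf A := fun t ht A hA =>
    Core.map_conj_eq_of_mem_normalizer (normalizer_le_normalizer_W (hA ht))
  have hUD : U ≤ normalizer (D : Set G) := by
    intro n hn
    refine Core.mem_normalizer_iff_map_conj.2 ?_
    rw [hD, Subgroup.map_sup]
    by_cases hnT : n ∈ T
    · rw [hWN n hnT k.left.norm, hWN n hnT k.right.norm]
    · rw [conj_W k h2 hn hnT, conj_W k.symm (card_Hof_right k h2) hn hnT, sup_comm]
  haveI : (D.subgroupOf U).Normal := normal_subgroupOf_of_le_normalizer hUD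
  have hDU : D ≤ U := (sup_le k.left.W_le k.right.W_le).trans hTU
  -- `N(T)` has order at most 32
  have hUle : Nat.card U ≤ 32 := by
    by_cases hex : ∃ n ∈ U, n ∉ T
    · obtain ⟨n, hn, hnT⟩ := hex
      have hcov : (U : Set G) ⊆ (T : Set G) ∪ (fun v => n * v) '' (T : Set G) := by
        intro m hm
        by_cases hmT : m ∈ T
        · exact Or.inl hmT
        refine Or.inr ⟨n⁻¹ * m, ?_, mul_inv_cancel_left n m⟩
        obtain ⟨c, hc⟩ := (Nat.card_eq_two_iff' (1 : ↥(Hof T K₂))).1 (card_Hof_right k h2)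
        have i1 := hc.2 ⟨_, conj_Hof k h2 hm hmT hh hh1⟩
          fun q => hh1 (conj_eq_one_iff.1 (congrArg Subtype.val q))
        have i2 := hc.2 ⟨_, conj_Hof k h2 hn hnT hh hh1⟩
          fun q => hh1 (conj_eq_one_iff.1 (congrArg Subtype.val q))
        have a1 : m * h * m⁻¹ = n * h * n⁻¹ := congrArg Subtype.val (i1.trans i2.symm)
        refine (L_inf_normalizer k h2).le ⟨(centralizer_Hof k h2 hh hh1).le
          (mem_centralizer_singleton_iff.2 ?_), U.mul_mem (U.inv_mem hn) hm⟩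
        calc n⁻¹ * m * h = n⁻¹ * (m * h * m⁻¹) * m := by group
          _ = h * (n⁻¹ * m) := by rw [a1]; group
      rw [show Nat.card U = (U : Set G).ncard from Nat.card_coe_set_eq _]
      refine le_trans (Set.ncard_le_ncard hcov (Set.toFinite _)) (le_trans (Set.ncard_union_le _ _) ?_)
      have := Set.ncard_image_le (f := fun v => n * v) (s := (T : Set G)) (Set.toFinite _)
      have e : (T : Set G).ncard = 16 := by rw [← Nat.card_coe_set_eq]; exact (card_T_eq k).trans (by rw [h2])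
      omega
    · push Not at hex
      have := card_le_of_le (fun x hx => hex x hx : U ≤ T)
      rw [card_T_eq k, h2] at this
      omega
  set Q := ↥U ⧸ D.subgroupOf U
  have hQc : Nat.card Q = 2 ∨ Nat.card Q = 4 := by
    have h1 := Core.card_mul_relIndex hTU
    rw [card_T_eq k, h2] at h1
    have h2' := Core.card_mul_relIndex hDU
    rw [card_D k] at h2'
    have e : Nat.card Q = D.relIndex U := rfl
    have : 0 < Nat.card U := Nat.card_pos
    rw [e]
    omega
  have hcomm : ∀ a b : Q, a * b = b * a := by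
    rcases hQc with hq | hq
    · haveI : IsCyclic Q := isCyclic_of_prime_card (p := 2) hq
      letI := IsCyclic.commGroup (α := Q)
      exact mul_comm
    · haveI := IsPGroup.isMulCommutative_of_card_eq_prime_sq (p := 2) hq
      exact fun a b => (IsMulCommutative.is_comm (M := Q)).comm a b
  letI : CommGroup Q := { (inferInstance : Group Q) with mul_comm := hcomm }
  let φ : ↥U →* Q := QuotientGroup.mk' (D.subgroupOf U)
  have hhT : h ∈ T := (k.left.Hof_central hh).1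
  have e := transfer_unique_fixed k.left.isPGroup hTU (hTU hhT) (Z0_sq hh.1)
    (fun x hx => mem_centralizer_iff.1 (k.left.Hof_central hh).2 x hx)
    (fun a ha => mem_normalizer_of_conj_le k h2 ha) φ
  have hne : φ ⟨h, hTU hhT⟩ ≠ 1 := fun q => hh1 (mem_bot.1 ((D_inf_Hof k).le
    ⟨mem_subgroupOf.1 ((QuotientGroup.eq_one_iff _).1 q), hh⟩))
  intro hmem
  have hle : oddGen G ≤ (MonoidHom.transfer φ).ker := by
    refine (Subgroup.closure_le _).2 fun g hg => MonoidHom.mem_ker.2 (orderOf_eq_one_iff.1 ?_)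
    refine Nat.eq_one_of_dvd_coprimes ((Nat.coprime_two_left.2 hg).pow_left 2).symm
      (orderOf_map_dvd _ g) ?_
    refine (_root_.orderOf_dvd_natCard _).trans ?_
    rcases hQc with hq | hq <;> rw [hq] <;> norm_num
  exact hne (e.symm.trans (MonoidHom.mem_ker.1 (hle hmem)))

end Two

section Inf

variable (k : Linked T K₁ L₁ K₂ L₂)
include k

theorem Hof_inf_oddGen : Hof T K₁ ⊓ oddGen G = ⊥ := by
  refine (eq_bot_iff_forall _).2 fun h hh => ?_
  by_contra hh1
  have h2 : Nat.card ↥(Hof T K₁) = 2 := by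
    haveI : Nontrivial ↥(Hof T K₁) := ⟨⟨⟨h, hh.1⟩, 1, fun e => hh1 (congrArg Subtype.val e)⟩⟩
    have h1 : 1 < Nat.card ↥(Hof T K₁) := Finite.one_lt_card
    have := k.left.card_Hof
    omega
  exact Hof_not_oddGen k h2 hh.1 hh1 hh.2

theorem CT_inf_oddGen : CT T K₁ ⊓ oddGen G = wOf K₁ := by
  refine le_antisymm (fun x hx => ?_) (le_inf k.left.W_le_CT (W_le_oddGen k.left.comp))
  have hx1 := hx.1
  rw [k.CT_eq] at hx1
  obtain ⟨w, hw, h, hh, rfl⟩ := (Core.mem_sup_of_le_normalizer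
    (k.left.W_le.trans k.left.T_le_normalizer_Hof)).1 hx1
  have h1 : h = 1 := mem_bot.1 ((Hof_inf_oddGen k).le ⟨hh, by
    simpa using mul_mem (inv_mem (W_le_oddGen k.left.comp hw)) hx.2⟩)
  rw [h1, mul_one]
  exact hw

theorem normalizer_W_eq : normalizer (wOf K₁ : Set G) = L₁ := by
  refine le_antisymm (k.left.eq_max ⟨wOf K₁, k.left.isPGroup.to_le k.left.W_le, W_ne_bot k.left.comp, rfl⟩
    (le_normalizer.trans normalizer_le_normalizer_W) ?_) ?_
  · exact ((map_subtype_le _).trans k.left.norm).trans normalizer_le_normalizer_W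
  · rw [k.L_eq]
    exact (sup_le le_normalizer k.left.norm).trans normalizer_le_normalizer_W

theorem L_eq_sup : L₁ = (L₁ ⊓ oddGen G) ⊔ Hof T K₁ := by
  refine le_antisymm ?_ (sup_le inf_le_left fun h hh => k.left.sylow.1 (k.left.Hof_central hh).1)
  rw [k.L_eq]
  refine sup_le ?_ ?_
  · exact (le_inf (le_sup_left : K₁ ≤ K₁ ⊔ T) (comp_le_oddGen k.left.comp)).trans le_sup_left
  · conv_lhs => rw [T_eq k]
    refine sup_le (le_trans ?_ le_sup_left) le_sup_right
    exact le_inf ((sup_le k.left.W_le k.right.W_le).trans le_sup_right)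
      (sup_le (W_le_oddGen k.left.comp) (W_le_oddGen k.right.comp))

theorem card_inf_ge : 24 ≤ Nat.card ↥(L₁ ⊓ oddGen G) := by
  have hc : Nat.card L₁ = 24 * Nat.card ↥(Hof T K₁) := by
    have := k.left.card_Hof
    have := Nat.card_pos (α := ↥(Hof T K₁))
    rcases (show Nat.card ↥(Hof T K₁) = 1 ∨ Nat.card ↥(Hof T K₁) = 2 by omega) with h | h
    · obtain ⟨e⟩ := k.iso.1 h
      rw [h, Nat.card_congr e.toEquiv, Nat.card_perm, Nat.card_fin]
      rfl
    · rw [h, card_L k h]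
  have hN : Hof T K₁ ≤ normalizer ((L₁ ⊓ oddGen G : Subgroup G) : Set G) := fun h hh =>
    mem_normalizer_fintype fun x hx => by
      have hx' : x ∈ K₁ ⊔ T := k.L_eq.le hx.1
      have hle : K₁ ⊔ T ≤ Subgroup.centralizer ({h} : Set G) := sup_le
        (fun y hy => mem_centralizer_singleton_iff.2 (mem_centralizer_iff.1 hh.2 y hy))
        (fun y hy => mem_centralizer_singleton_iff.2 (mem_centralizer_iff.1 (k.left.Hof_central hh).2 y hy))
      rw [← mem_centralizer_singleton_iff.1 (hle hx'), mul_inv_cancel_right]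
      exact hx
  have h := card_sup_mul_card_inf' hN
  rw [← L_eq_sup k, inf_right_comm, inf_assoc, Hof_inf_oddGen k, inf_bot_eq, card_bot, mul_one, hc] at h
  exact (Nat.eq_of_mul_eq_mul_right Nat.card_pos h).le

theorem inf_iso : Nonempty (↥(L₁ ⊓ oddGen G) ≃* Equiv.Perm (Fin 4)) := by
  classical
  have hP := card_inf_ge k
  have := k.left.card_Hof
  have := Nat.card_pos (α := ↥(Hof T K₁))
  rcases (show Nat.card ↥(Hof T K₁) = 1 ∨ Nat.card ↥(Hof T K₁) = 2 by omega) with h | h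
  · obtain ⟨e⟩ := k.iso.1 h
    have he : L₁ ⊓ oddGen G = L₁ := eq_of_le_of_card_ge inf_le_left (by
      rw [Nat.card_congr e.toEquiv, Nat.card_perm, Nat.card_fin]
      exact hP)
    exact ⟨(MulEquiv.subgroupCongr he).trans e⟩
  · obtain ⟨e⟩ := k.iso.2 h
    let ψ : ↥(L₁ ⊓ oddGen G) →* Equiv.Perm (Fin 4) :=
      (MonoidHom.fst _ _).comp (e.toMonoidHom.comp (Subgroup.inclusion inf_le_left))
    have hinj : Function.Injective ψ := by
      rw [injective_iff_map_eq_one]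
      intro x hx
      set y : ↥L₁ := Subgroup.inclusion inf_le_left x with hy
      have hcen : ∀ p : ↥L₁, p * y = y * p := by
        intro p
        apply e.injective
        rw [map_mul, map_mul]
        refine Prod.ext ?_ (mul_comm _ _)
        show (e p).1 * (e y).1 = (e y).1 * (e p).1
        rw [show (e y).1 = 1 from hx, one_mul, mul_one]
      obtain ⟨S, M, b, -⟩ := k.left.base
      have hC := twoLocal_facts b.char2 k.left.max.1
      rw [k.core_L] at hC
      have hxW : (x : G) ∈ wOf K₁ := (CT_inf_oddGen k).le ⟨hC (mem_centralizer_iff.2 fun q hq =>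
        congrArg Subtype.val (hcen ⟨q, k.left.sylow.1 hq.1⟩)), x.2.2⟩
      obtain ⟨ρ, hρ, ho, hn, -⟩ := exists_rho k.left.comp
      refine Subtype.ext (rho_fpf k.left.comp hρ ho hn hxW ?_)
      have e' : ρ * (x : G) = x * ρ := congrArg Subtype.val (hcen ⟨ρ, k.left.le hρ⟩)
      rw [e', mul_inv_cancel_right]
    refine ⟨MulEquiv.ofBijective ψ ((Nat.bijective_iff_injective_and_card ψ).2 ⟨hinj, ?_⟩)⟩
    refine le_antisymm (Nat.card_le_card_of_injective ψ hinj) ?_
    rw [Nat.card_perm, Nat.card_fin]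
    exact hP

theorem inf_maximal {H : Subgroup G} (hH : H = oddGen G) :
    IsMaximalTwoLocal ((L₁ ⊓ H).subgroupOf H) := by
  haveI : Fact (Nat.Prime 2) := ⟨Nat.prime_two⟩
  subst hH
  set H := oddGen G with hH
  have s₁ := k.left
  have hWH : wOf K₁ ≤ H := W_le_oddGen s₁.comp
  have hWp : IsPGroup 2 (wOf K₁) := s₁.isPGroup.to_le s₁.W_le
  have hnorm : normalizer (((wOf K₁).subgroupOf H : Subgroup ↥H) : Set ↥H) = (L₁ ⊓ H).subgroupOf H := by
    ext x
    rw [mem_subgroupOf, mem_inf, ← normalizer_W_eq k, mem_normalizer_iff, mem_normalizer_iff]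
    refine ⟨fun h => ⟨fun y => ?_, x.2⟩, fun h y => h.1 y⟩
    by_cases hy : y ∈ H
    · exact h ⟨y, hy⟩
    · refine ⟨fun h' => absurd (hWH h') hy, fun h' => absurd (hWH h') fun h'' => hy ?_⟩
      simpa [mul_assoc] using H.mul_mem (H.mul_mem (H.inv_mem x.2) h'') x.2
  have hne : (wOf K₁).subgroupOf H ≠ ⊥ := fun h => W_ne_bot s₁.comp
    (by rw [subgroupOf_eq_bot, disjoint_iff, inf_eq_left.2 hWH] at h; exact h)
  refine ⟨⟨(wOf K₁).subgroupOf H, hWp.comap_subtype, hne, hnorm.symm⟩, ?_⟩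
  rintro _ ⟨R', hR', hR'1, rfl⟩ hle
  set R := R'.map H.subtype with hR
  have hRH : R ≤ H := map_subtype_le _
  have hRp : IsPGroup 2 R := hR'.map _
  have hPR : L₁ ⊓ H ≤ normalizer (R : Set G) := by
    intro x hx
    have hxR : (⟨x, hx.2⟩ : ↥H) ∈ normalizer (R' : Set ↥H) := hle hx
    refine mem_normalizer_fintype ?_
    rintro _ ⟨r, hr, rfl⟩
    exact ⟨⟨x, hx.2⟩ * r * ⟨x, hx.2⟩⁻¹, (mem_normalizer_iff.1 hxR r).1 hr, rfl⟩
  have hWP : wOf K₁ ≤ L₁ ⊓ H := le_inf (s₁.W_le.trans s₁.sylow.1) hWH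
  -- the part of `R` in `L₁`
  have hLW : R ⊓ L₁ ≤ wOf K₁ := by
    have hn : L₁ ≤ normalizer ((R ⊓ L₁ : Subgroup G) : Set G) := by
      conv_lhs => rw [L_eq_sup k]
      refine sup_le ((le_inf hPR (inf_le_left.trans le_normalizer)).trans inf_normalizer_le_normalizer_inf) ?_
      intro h hh
      refine mem_normalizer_fintype fun x hx => ?_
      have hle' : K₁ ⊔ T ≤ Subgroup.centralizer ({h} : Set G) := sup_le
        (fun y hy => mem_centralizer_singleton_iff.2 (mem_centralizer_iff.1 hh.2 y hy))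
        (fun y hy => mem_centralizer_singleton_iff.2 (mem_centralizer_iff.1 (s₁.Hof_central hh).2 y hy))
      rw [← mem_centralizer_singleton_iff.1 (hle' (k.L_eq.le hx.2)), mul_inv_cancel_right]
      exact hx
    refine le_trans (le_inf ?_ (inf_le_left.trans hRH)) (CT_inf_oddGen k).le
    rw [← k.core_L]
    exact le_pCoreOf inf_le_right hn (hRp.to_le inf_le_left)
  have hWR : R ≤ wOf K₁ := by
    have hN : wOf K₁ ≤ normalizer (R : Set G) := hWP.trans hPR
    have hp : IsPGroup 2 ↥(R ⊔ wOf K₁) := IsPGroup.to_sup_of_normal_left' hRp hWp hN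
    have heq : R ⊔ wOf K₁ = wOf K₁ := by
      refine le_antisymm ?_ le_sup_right
      by_contra hnle
      haveI := hp.isNilpotent
      set V := (wOf K₁).subgroupOf (R ⊔ wOf K₁) with hV
      have hlt : V < ⊤ := lt_of_le_of_ne le_top fun e => hnle (subgroupOf_eq_top.1 e)
      obtain ⟨y, hy, hyV⟩ := SetLike.exists_of_lt (Group.normalizerCondition_of_isNilpotent _ hlt)
      refine hyV (mem_subgroupOf.2 ?_)
      have hyL : (y : G) ∈ L₁ := by
        rw [← normalizer_W_eq k]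
        refine mem_normalizer_fintype fun w hw => ?_
        exact ((mem_normalizer_iff.1 hy ⟨w, mem_sup_right hw⟩).1 hw)
      have hy2 := y.2
      obtain ⟨w, hw, r, hr, e⟩ := (Core.mem_sup_of_le_normalizer hN).1 (by rw [sup_comm]; exact hy2)
      have hrL : r ∈ L₁ := by
        have := L₁.mul_mem (L₁.inv_mem (hWP hw).1) hyL
        rwa [← e, inv_mul_cancel_left] at this
      rw [← e]
      exact mul_mem hw (hLW ⟨hr, hrL⟩)
    exact le_sup_left.trans heq.le
  have hReq : R = wOf K₁ := eq_W_of_invariant s₁.comp hWR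
    (fun h => hR'1 ((map_eq_bot_iff_of_injective R' H.subtype_injective).1 h))
    ((le_inf s₁.le (comp_le_oddGen s₁.comp)).trans hPR)
  have : R' = (wOf K₁).subgroupOf H := by
    rw [← hReq, hR, subgroupOf, comap_map_eq_self_of_injective H.subtype_injective]
  rw [this, hnorm]

theorem inf_card : Nat.card ↥(L₁ ⊓ oddGen G ⊓ (L₂ ⊓ oddGen G)) = 8 := by
  obtain ⟨e⟩ := inf_iso k
  have h24 : Nat.card ↥(L₁ ⊓ oddGen G) = 24 := by
    rw [Nat.card_congr e.toEquiv, Nat.card_perm, Nat.card_fin]; rfl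
  have hD : wOf K₁ ⊔ wOf K₂ ≤ L₁ ⊓ oddGen G ⊓ (L₂ ⊓ oddGen G) := le_inf
    (le_inf ((sup_le k.left.W_le k.right.W_le).trans k.left.sylow.1)
      (sup_le (W_le_oddGen k.left.comp) (W_le_oddGen k.right.comp)))
    (le_inf ((sup_le k.left.W_le k.right.W_le).trans k.right.sylow.1)
      (sup_le (W_le_oddGen k.left.comp) (W_le_oddGen k.right.comp)))
  obtain ⟨m, hm⟩ := card_dvd_of_le hD
  obtain ⟨j, hj⟩ := card_dvd_of_le
    (inf_le_left : L₁ ⊓ oddGen G ⊓ (L₂ ⊓ oddGen G) ≤ L₁ ⊓ oddGen G)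
  rw [card_D k] at hm
  rw [h24, hm] at hj
  have hmj : m ∣ 3 := Dvd.intro j (by linarith)
  rcases (Nat.dvd_prime Nat.prime_three).1 hmj with rfl | rfl
  · rw [hm]
  · exfalso
    have he := eq_of_le_of_card_ge
      (inf_le_left : L₁ ⊓ oddGen G ⊓ (L₂ ⊓ oddGen G) ≤ L₁ ⊓ oddGen G) (by rw [h24, hm])
    exact k.symm.out ((le_inf k.left.le (comp_le_oddGen k.left.comp)).trans
      (he.ge.trans (inf_le_right.trans inf_le_left)))

end Inf

end Cfsg.Lib.Local.ZN
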