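import Cfsg.Agent.Lib.Local.ZN.Cores
import Cfsg.Agent.Lib.Sig.GoldschmidtFusion
import Cfsg.Agent.Lib.Invol.SylowTools
import Cfsg.Agent.Lib.Local.JComp.Local

/-!
# The closure of the cores over the elementary subgroups of rank three of a Sylow 2-subgroup
-/

set_option autoImplicit false
set_option linter.style.haveILetI false

namespace Cfsg.Lib.Local.ZN

open Subgroup Cfsg Cfsg.Lib

universe u

variable {G : Type u} [Group G] [Finite G]

omit [Finite G] in
theorem elementary_sup {E F : Subgroup G} (hE : IsElementaryAbelian 2 E) (hF : IsElementaryAbelian 2 F)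
    (h : E ≤ centralizer (F : Set G)) : IsElementaryAbelian 2 (E ⊔ F) := by
  haveI := hE.1
  haveI := hF.1
  have hc : ⁅E, F⁆ = ⊥ := commutator_eq_bot_iff_le_centralizer.mpr h
  have hcm : ∀ a ∈ E, ∀ b ∈ F, Commute a b := fun a ha b hb => (mem_centralizer_iff.mp (h ha) b hb).symm
  refine ⟨⟨⟨fun x y => Subtype.ext ?_⟩⟩, fun x hx => ?_⟩
  · obtain ⟨a, ha, b, hb, ex⟩ := (Core.mem_sup_of_commute hc).1 x.2
    obtain ⟨a', ha', b', hb', ey⟩ := (Core.mem_sup_of_commute hc).1 y.2
    show (x : G) * y = y * x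
    rw [← ex, ← ey]
    exact (((show Commute a a' from setLike_mul_comm ha ha').mul_right (hcm a ha b' hb')).mul_left
      ((hcm a' ha' b hb).symm.mul_right (show Commute b b' from setLike_mul_comm hb hb'))).eq
  · obtain ⟨a, ha, b, hb, rfl⟩ := (Core.mem_sup_of_commute hc).1 hx
    rw [(hcm a ha b hb).mul_pow, hE.2 a ha, hF.2 b hb, one_mul]

omit [Finite G] in
theorem elementary_mono {E F : Subgroup G} (hF : IsElementaryAbelian 2 F) (h : E ≤ F) :
    IsElementaryAbelian 2 E :=
  haveI := hF.1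
  ⟨⟨⟨fun a b => Subtype.ext (setLike_mul_comm (h a.2) (h b.2))⟩⟩, fun a ha => hF.2 a (h ha)⟩

omit [Finite G] in
theorem elementary_zpowers_involution {t : G} (ht : t * t = 1) : IsElementaryAbelian 2 (zpowers t) :=
  ⟨inferInstance, fun x hx => by
    obtain ⟨k, rfl⟩ := mem_zpowers_iff.1 hx
    rw [pow_two, ← (Commute.refl t).mul_zpow, ht, one_zpow]⟩

omit [Finite G] in
theorem elementary_commute {E : Subgroup G} (hE : IsElementaryAbelian 2 E) {a b : G} (ha : a ∈ E)
    (hb : b ∈ E) : Commute a b :=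
  haveI := hE.1
  setLike_mul_comm ha hb

theorem elementary_map {E : Subgroup G} (hE : IsElementaryAbelian 2 E) (g : G) :
    IsElementaryAbelian 2 (E.map (MulAut.conj g).toMonoidHom) :=
  ⟨⟨⟨by
    rintro ⟨_, a, ha, rfl⟩ ⟨_, b, hb, rfl⟩
    exact Subtype.ext (((elementary_commute hE ha hb).map (MulAut.conj g).toMonoidHom).eq)⟩⟩, by
    rintro _ ⟨a, ha, rfl⟩
    rw [← map_pow, hE.2 a ha, map_one]⟩

/-- The subgroup generated by the cores of the centralizers of the nontrivial elements of `D`. -/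
abbrev clos (D : Subgroup G) : Subgroup G :=
  ⨆ a : {a : G // a ∈ D ∧ a ≠ 1}, centralizerPPrimeCore 2 (a : G)

theorem theta_le_clos {D : Subgroup G} {t : G} (ht : t ∈ D) (ht1 : t ≠ 1) :
    centralizerPPrimeCore 2 t ≤ clos D :=
  le_iSup_of_le (f := fun a : {a : G // a ∈ D ∧ a ≠ 1} => centralizerPPrimeCore 2 (a : G)) ⟨t, ht, ht1⟩ le_rfl

theorem theta_map (g a : G) :
    (centralizerPPrimeCore 2 a).map (MulAut.conj g).toMonoidHom = centralizerPPrimeCore 2 (g * a * g⁻¹) := by
  refine le_antisymm (FTCons.centralizerPPrimeCore_map_conj 2 g a) fun x hx => ⟨g⁻¹ * x * g, ?_, by simp [mul_assoc]⟩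
  have h := FTCons.centralizerPPrimeCore_map_conj 2 g⁻¹ (g * a * g⁻¹) (mem_map_of_mem _ hx)
  rw [show g⁻¹ * (g * a * g⁻¹) * g⁻¹⁻¹ = a by group] at h
  simpa using h

theorem clos_map (g : G) (D : Subgroup G) :
    (clos D).map (MulAut.conj g).toMonoidHom = clos (D.map (MulAut.conj g).toMonoidHom) := by
  rw [Subgroup.map_iSup]
  refine le_antisymm (iSup_le fun a => ?_) (iSup_le fun a => ?_)
  · rw [theta_map]
    exact theta_le_clos (mem_map_of_mem _ a.2.1) fun e => a.2.2 (conj_eq_one_iff.1 e)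
  · obtain ⟨b, hb, e⟩ := a.2.1
    have hb1 : b ≠ 1 := fun h => a.2.2 (by rw [← e, h, map_one])
    refine le_trans (le_of_eq ?_) (le_iSup (fun x : {x : G // x ∈ D ∧ x ≠ 1} =>
      (centralizerPPrimeCore 2 (x : G)).map (MulAut.conj g).toMonoidHom) ⟨b, hb, hb1⟩)
    rw [theta_map, show g * b * g⁻¹ = (a : G) from e]

/-- The situation: an elementary `E ≤ S` meeting the centralizers in all elementary subgroups of rank three. -/
structure Base (S : Sylow 2 G) (E : Subgroup G) : Prop where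
  sol : ∀ t : G, orderOf t = 2 → Group.IsSolvable ↥(centralizer ({t} : Set G))
  le : E ≤ (S : Subgroup G)
  norm : (S : Subgroup G) ≤ normalizer (E : Set G)
  elem : IsElementaryAbelian 2 E
  four : 4 ≤ Nat.card E
  meet : ∀ B : Subgroup G, B ≤ (S : Subgroup G) → IsElementaryAbelian 2 B → 8 ≤ Nat.card B →
    4 ≤ Nat.card ↥(B ⊓ centralizer (E : Set G))
  exists8 : ∃ A : Subgroup G, A ≤ (S : Subgroup G) ∧ IsElementaryAbelian 2 A ∧ 8 ≤ Nat.card A ∧ E ≤ A

namespace Base

variable {S : Sylow 2 G} {E : Subgroup G} (b : Base S E)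
include b

theorem setup {B : Subgroup G} (hB : IsElementaryAbelian 2 B) (h8 : 8 ≤ Nat.card B) :
    Sig.SSFT.Setup 2 B (centralizerPPrimeCore 2) :=
  FTCons.core_setup (fun _ hT hT1 => constrained_normalizer b.sol hT hT1)
    (fun H _ _ h => Cfsg.Agent.S0205.result h) hB h8

theorem clos_sub {B D : Subgroup G} (hB : IsElementaryAbelian 2 B) (h8 : 8 ≤ Nat.card B) (hDB : D ≤ B)
    (hD : 4 ≤ Nat.card D) : clos D = clos B :=
  haveI : Fact (Nat.Prime 2) := ⟨Nat.prime_two⟩
  (b.setup hB h8).closure_eq hDB hD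

/-- All noncyclic subgroups of elementary subgroups of rank three of `S` give one closure. -/
theorem clos_eq {B D : Subgroup G} (hB : IsElementaryAbelian 2 B) (hBS : B ≤ (S : Subgroup G))
    (h8 : 8 ≤ Nat.card B) (hDB : D ≤ B) (hD : 4 ≤ Nat.card D) : clos D = clos E := by
  haveI : Fact (Nat.Prime 2) := ⟨Nat.prime_two⟩
  obtain ⟨A, hAS, hA, hA8, hEA⟩ := b.exists8
  set K := B ⊓ centralizer (E : Set G) with hK
  have hK4 := b.meet B hBS hB h8
  have hB1 : IsElementaryAbelian 2 (K ⊔ E) :=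
    elementary_sup (elementary_mono hB inf_le_left) b.elem inf_le_right
  rw [b.clos_sub hB h8 hDB hD, ← b.clos_sub hB h8 (inf_le_left : K ≤ B) hK4]
  by_cases h : 8 ≤ Nat.card ↥(K ⊔ E)
  · rw [b.clos_sub hB1 h le_sup_left hK4, b.clos_sub hB1 h le_sup_right b.four]
  · obtain ⟨k, hk⟩ := IsPGroup.iff_card.1 ((S.isPGroup').to_le (sup_le (inf_le_left.trans hBS) b.le : K ⊔ E ≤ _))
    have h4 : Nat.card ↥(K ⊔ E) = 4 := by
      have h1 := b.four.trans (card_le_of_le (le_sup_right : E ≤ K ⊔ E))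
      rw [hk] at h h1 ⊢
      rcases Nat.lt_or_ge k 3 with hk3 | hk3
      · interval_cases k <;> omega
      · exact absurd (le_trans (by norm_num) (Nat.pow_le_pow_right (n := 2) (by norm_num) hk3)) h
    exact congrArg clos ((eq_of_le_of_card_ge (le_sup_left : K ≤ K ⊔ E) (h4.le.trans hK4)).trans
      (eq_of_le_of_card_ge (le_sup_right : E ≤ K ⊔ E) (h4.le.trans b.four)).symm)

theorem theta_le {B : Subgroup G} (hB : IsElementaryAbelian 2 B) (hBS : B ≤ (S : Subgroup G))
    (h8 : 8 ≤ Nat.card B) {t : G} (ht : t ∈ B) (ht1 : t ≠ 1) : centralizerPPrimeCore 2 t ≤ clos E :=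
  (theta_le_clos ht ht1).trans (b.clos_eq hB hBS h8 le_rfl (le_trans (by norm_num) h8)).le

theorem clos_odd : Odd (Nat.card ↥(clos E)) := by
  haveI : Fact (Nat.Prime 2) := ⟨Nat.prime_two⟩
  obtain ⟨A, hAS, hA, hA8, hEA⟩ := b.exists8
  rw [b.clos_sub hA hA8 hEA b.four]
  exact Nat.not_even_iff_odd.1 fun he => (b.setup hA hA8).closure_mem.2.1 he.two_dvd

theorem mem_normalizer_of_conj_le {B : Subgroup G} (hB : IsElementaryAbelian 2 B) (hBS : B ≤ (S : Subgroup G))
    (h8 : 8 ≤ Nat.card B) {g : G} (hg : ∀ x ∈ B, g * x * g⁻¹ ∈ (S : Subgroup G)) :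
    g ∈ normalizer (clos E : Set G) := by
  refine Core.mem_normalizer_iff_map_conj.2 ?_
  have hle : B.map (MulAut.conj g).toMonoidHom ≤ (S : Subgroup G) := by
    rintro _ ⟨x, hx, rfl⟩
    exact hg x hx
  have h4 : 4 ≤ Nat.card B := le_trans (by norm_num) h8
  have hc : 8 ≤ Nat.card ↥(B.map (MulAut.conj g).toMonoidHom) := by
    rwa [card_map_of_injective (MulAut.conj g).injective]
  conv_lhs => rw [← b.clos_eq hB hBS h8 le_rfl h4]
  rw [clos_map, b.clos_eq (elementary_map hB g) hle hc le_rfl (le_trans (by norm_num) hc)]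

theorem sylow_le : (S : Subgroup G) ≤ normalizer (clos E : Set G) := by
  obtain ⟨A, hAS, hA, hA8, -⟩ := b.exists8
  exact fun g hg => b.mem_normalizer_of_conj_le hA hAS hA8 fun x hx =>
    mul_mem (mul_mem hg (hAS hx)) (inv_mem hg)

theorem normalizer_sylow_le : normalizer ((S : Subgroup G) : Set G) ≤ normalizer (clos E : Set G) := by
  obtain ⟨A, hAS, hA, hA8, -⟩ := b.exists8
  exact fun g hg => b.mem_normalizer_of_conj_le hA hAS hA8 fun x hx =>
    (mem_normalizer_iff.1 hg x).1 (hAS hx)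

/-- The centralizer of an involution which is central in a Sylow subgroup of its centralizer inside `S`. -/
theorem centralizer_le_of_sylow
    (hZ : centralizer (omegaOne 2 ((S : Subgroup G) ⊓ centralizer ((S : Subgroup G) : Set G)) : Set G) ≤
      normalizer ((S : Subgroup G) : Set G))
    {B : Subgroup G} (hB : IsElementaryAbelian 2 B) (hBS : B ≤ (S : Subgroup G)) (h8 : 8 ≤ Nat.card B)
    {t : G} (ht : t ∈ B) (ht1 : t ≠ 1)
    (hful : ¬ 2 ∣ ((S : Subgroup G) ⊓ centralizer ({t} : Set G)).relIndex (centralizer ({t} : Set G))) :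
    centralizer ({t} : Set G) ≤ normalizer (clos E : Set G) := by
  haveI : Fact (Nat.Prime 2) := ⟨Nat.prime_two⟩
  set X := clos E with hX
  set Z := omegaOne 2 ((S : Subgroup G) ⊓ centralizer ((S : Subgroup G) : Set G)) with hZdef
  set C := centralizer ({t} : Set G) with hC
  set U := (S : Subgroup G) ⊓ C with hU
  set F := omegaOne 2 (U ⊓ centralizer (U : Set G)) with hF
  have ht2 : t * t = 1 := by rw [← pow_two]; exact hB.2 t ht
  have htS : t ∈ (S : Subgroup G) := hBS ht
  have htC : t ∈ C := mem_centralizer_singleton_iff.2 rfl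
  have htF : t ∈ F := subset_closure ⟨⟨⟨htS, htC⟩, mem_centralizer_iff.2 fun u hu =>
    mem_centralizer_singleton_iff.1 hu.2⟩, by rw [pow_two]; exact ht2⟩
  have hZF : Z ≤ F := (closure_le _).2 fun z hz => subset_closure
    ⟨⟨⟨hz.1.1, mem_centralizer_singleton_iff.2 (mem_centralizer_iff.1 hz.1.2 t htS).symm⟩,
      mem_centralizer_iff.2 fun u hu => mem_centralizer_iff.1 hz.1.2 u hu.1⟩, hz.2⟩
  by_cases hF4 : 4 ≤ Nat.card F
  swap
  · -- then `t` generates `Ω₁(Z(S))`
    have hFt : F ≤ zpowers t := by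
      have hd := card_dvd_of_le (zpowers_le.2 htF)
      rw [Nat.card_zpowers, orderOf_eq_prime (by rw [pow_two]; exact ht2) ht1] at hd
      refine (eq_of_le_of_card_ge (zpowers_le.2 htF) ?_).ge
      rw [Nat.card_zpowers, orderOf_eq_prime (by rw [pow_two]; exact ht2) ht1]
      obtain ⟨m, hm⟩ := hd
      omega
    have hCZ : C ≤ centralizer (Z : Set G) := by
      rw [hC, ← Local.FreeAction.centralizer_zpowers_eq]
      exact centralizer_le (SetLike.coe_subset_coe.2 (hZF.trans hFt))
    exact (hCZ.trans hZ).trans b.normalizer_sylow_le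
  have hFU : F ≤ U := BaumannBlock.omegaOneCenter_le 2 U
  have hFe : IsElementaryAbelian 2 F :=
    ⟨⟨⟨fun x y => Subtype.ext (BaumannBlock.omegaOneCenter_commute x.2 (hFU y.2)).eq⟩⟩,
      fun x hx => BaumannBlock.omegaOneCenter_pow hx⟩
  -- the Frattini argument inside `C`
  set K := (pPrimePCore 2 ↥C).map C.subtype with hK
  have hKC : K ≤ C := map_subtype_le _
  have hCK : C ≤ normalizer (K : Set G) :=
    le_normalizer.trans (Core.normalizer_le_normalizer_map_char (pPrimePCore 2 ↥C))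
  set Q := (S : Subgroup G) ⊓ K with hQ
  have hQU : Q ≤ U := inf_le_inf le_rfl hKC
  have hQodd : ¬ 2 ∣ Q.relIndex K := by
    intro h2
    apply hful
    have e : Q.relIndex K = U.relIndex (K ⊔ U) := by
      have h1 := Core.card_mul_relIndex (le_sup_right : U ≤ K ⊔ U)
      have h2' := Core.card_mul_relIndex (inf_le_right : Q ≤ K)
      have h3 := Local.JComp.card_sup_mul_card_inf' ((inf_le_right : U ≤ C).trans hCK)
      have h4 : K ⊓ U = Q := le_antisymm (le_inf (inf_le_right.trans inf_le_left) inf_le_left)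
        (le_inf inf_le_right hQU)
      rw [h4, ← h1, ← h2'] at h3
      apply Nat.eq_of_mul_eq_mul_left (Nat.mul_pos (Nat.card_pos (α := Q)) (Nat.card_pos (α := U)))
      linarith
    rw [e] at h2
    exact h2.trans (Dvd.intro _ (relIndex_mul_relIndex U (K ⊔ U) C le_sup_right (sup_le hKC inf_le_right)))
  -- `F` lies in `Q`
  have hFQ : F ≤ Q := by
    refine le_inf (hFU.trans inf_le_left) fun x hx => ?_
    have hQp : IsPGroup 2 ↥(((Q.subgroupOf C)).subgroupOf (pPrimePCore 2 ↥C)) :=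
      ((S.isPGroup'.to_le (inf_le_left : Q ≤ _)).comap_subtype).comap_subtype
    haveI := b.sol t (orderOf_eq_prime (by rw [pow_two]; exact ht2) ht1)
    have hsub : (Q.subgroupOf C).subgroupOf (pPrimePCore 2 ↥C) =
        Q.comap (C.subtype.comp (pPrimePCore 2 ↥C).subtype) := rfl
    have hidx : ¬ 2 ∣ ((Q.subgroupOf C).subgroupOf (pPrimePCore 2 ↥C)).index := by
      rw [hsub, index_comap]
      have : (C.subtype.comp (pPrimePCore 2 ↥C).subtype).range = K := by
        rw [MonoidHom.range_comp, range_subtype]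
      rwa [this]
    have hcon := Sig.isPConstrained_of_isPSolvable (G := ↥C) (p := 2) Core.isPSolvable_of_isSolvable
      (hQp.toSylow hidx)
    refine ⟨⟨x, (hFU hx).2⟩, hcon (mem_centralizer_iff.2 ?_), rfl⟩
    rintro _ ⟨q, hq, rfl⟩
    have hqU : ((q : ↥C) : G) ∈ U := hQU (mem_subgroupOf.1 (mem_subgroupOf.1 hq))
    exact Subtype.ext (BaumannBlock.omegaOneCenter_commute hx hqU).eq.symm
  intro x hx
  obtain ⟨k, hk, hkx⟩ := Sig.Goldschmidt.exists_frattini (P := S) hKC hCK hful hx
  have hKX : K ≤ normalizer (X : Set G) := by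
    have hθK : centralizerPPrimeCore 2 t ≤ K := map_mono fun y hy => by
      show (QuotientGroup.mk' (pPrimeCore 2 ↥C)) y ∈ pCore 2 (↥C ⧸ pPrimeCore 2 ↥C)
      rw [show (QuotientGroup.mk' (pPrimeCore 2 ↥C)) y = 1 from (QuotientGroup.eq_one_iff y).2 hy]
      exact one_mem _
    have hle : centralizerPPrimeCore 2 t ⊔ Q = K := by
      refine le_antisymm (sup_le hθK inf_le_right) ?_
      set J := centralizerPPrimeCore 2 t ⊔ Q with hJ
      have h1 : J.relIndex K ∣ Q.relIndex K :=
        Dvd.intro_left _ (relIndex_mul_relIndex Q J K le_sup_right (sup_le hθK inf_le_right))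
      have h2 : J.relIndex K ∣ (centralizerPPrimeCore 2 t).relIndex K :=
        Dvd.intro_left _ (relIndex_mul_relIndex _ J K le_sup_left (sup_le hθK inf_le_right))
      have h3 : ∃ m, (centralizerPPrimeCore 2 t).relIndex K = 2 ^ m := by
        obtain ⟨m, hm⟩ := IsPGroup.iff_card.1 (Core.pCore_isPGroup 2 (↥C ⧸ pPrimeCore 2 ↥C))
        refine ⟨m, ?_⟩
        show ((pPrimeCore 2 ↥C).map C.subtype).relIndex ((pPrimePCore 2 ↥C).map C.subtype) = 2 ^ m
        rw [relIndex_map_map_of_injective _ _ C.subtype_injective, ← hm]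
        have hc := Core.card_mul_relIndex (show pPrimeCore 2 ↥C ≤ pPrimePCore 2 ↥C from fun y hy => by
          show (QuotientGroup.mk' (pPrimeCore 2 ↥C)) y ∈ pCore 2 (↥C ⧸ pPrimeCore 2 ↥C)
          rw [show (QuotientGroup.mk' (pPrimeCore 2 ↥C)) y = 1 from (QuotientGroup.eq_one_iff y).2 hy]
          exact one_mem _)
        have hc' : Nat.card ↥(pPrimePCore 2 ↥C) =
            Nat.card ↥(pCore 2 (↥C ⧸ pPrimeCore 2 ↥C)) * Nat.card ↥(pPrimeCore 2 ↥C) := by
          show Nat.card ↥((pCore 2 (↥C ⧸ pPrimeCore 2 ↥C)).comap (QuotientGroup.mk' (pPrimeCore 2 ↥C))) = _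
          rw [Core.card_comap_eq _ (QuotientGroup.mk'_surjective _), QuotientGroup.ker_mk', mul_comm]
        apply Nat.eq_of_mul_eq_mul_left (Nat.card_pos (α := ↥(pPrimeCore 2 ↥C)))
        rw [hc, hc']
        exact mul_comm _ _
      obtain ⟨m, hm⟩ := h3
      rw [hm] at h2
      obtain ⟨i, -, hi⟩ := (Nat.dvd_prime_pow Nat.prime_two).1 h2
      have : i = 0 := by
        by_contra hi0
        exact hQodd ((dvd_pow_self 2 hi0).trans (hi ▸ h1))
      exact relIndex_eq_one.1 (by rw [hi, this, pow_zero])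
    rw [← hle]
    exact sup_le ((b.theta_le hB hBS h8 ht ht1).trans le_normalizer) (inf_le_left.trans b.sylow_le)
  have hn : k⁻¹ * x ∈ normalizer (X : Set G) := by
    set n := k⁻¹ * x with hndef
    have hB' : IsElementaryAbelian 2 B := hB
    have hBU : B ≤ U := le_inf hBS fun y hy => mem_centralizer_singleton_iff.2 (elementary_commute hB hy ht).eq
    have hBF : IsElementaryAbelian 2 (B ⊔ F) := elementary_sup hB hFe fun y hy =>
      mem_centralizer_iff.2 fun f hf => (BaumannBlock.omegaOneCenter_commute hf (hBU hy)).eq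
    have hBFS : B ⊔ F ≤ (S : Subgroup G) := sup_le hBS (hFU.trans inf_le_left)
    have h8' : 8 ≤ Nat.card ↥(B ⊔ F) := h8.trans (card_le_of_le le_sup_left)
    have eF : clos F = X := b.clos_eq hBF hBFS h8' le_sup_right hF4
    set F' := F.map (MulAut.conj n).toMonoidHom with hF'
    have hF'U : F' ≤ U := by
      rintro _ ⟨f, hf, rfl⟩
      exact hQU ((mem_normalizer_iff.1 hkx f).1 (hFQ hf))
    have hc4 : 4 ≤ Nat.card F' := by rwa [hF', card_map_of_injective (MulAut.conj n).injective]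
    have hFF : IsElementaryAbelian 2 (F' ⊔ F) := elementary_sup (elementary_map hFe n) hFe fun y hy =>
      mem_centralizer_iff.2 fun f hf => (BaumannBlock.omegaOneCenter_commute hf (hF'U hy)).eq
    have hFFS : F' ⊔ F ≤ (S : Subgroup G) := sup_le (hF'U.trans inf_le_left) (hFU.trans inf_le_left)
    refine Core.mem_normalizer_iff_map_conj.2 ?_
    conv_lhs => rw [← eF]
    rw [clos_map, ← hF']
    by_cases h : 8 ≤ Nat.card ↥(F' ⊔ F)
    · exact b.clos_eq hFF hFFS h le_sup_left hc4
    · obtain ⟨j, hj⟩ := IsPGroup.iff_card.1 (S.isPGroup'.to_le hFFS)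
      have h4 : Nat.card ↥(F' ⊔ F) = 4 := by
        have h1 := hc4.trans (card_le_of_le (le_sup_left : F' ≤ F' ⊔ F))
        rw [hj] at h h1 ⊢
        rcases Nat.lt_or_ge j 3 with h3 | h3
        · interval_cases j <;> omega
        · exact absurd (le_trans (by norm_num) (Nat.pow_le_pow_right (n := 2) (by norm_num) h3)) h
      rw [eq_of_le_of_card_ge (le_sup_left : F' ≤ F' ⊔ F) (h4.le.trans hc4)]
      conv_lhs => rw [← eq_of_le_of_card_ge (le_sup_right : F ≤ F' ⊔ F) (h4.le.trans hF4)]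
      exact eF
  have := mul_mem (hKX hk) hn
  rwa [mul_inv_cancel_left] at this

/-- Every involution in an elementary subgroup of rank three of `S` has its centralizer in `N(X)`. -/
theorem centralizer_le
    (hZ : centralizer (omegaOne 2 ((S : Subgroup G) ⊓ centralizer ((S : Subgroup G) : Set G)) : Set G) ≤
      normalizer ((S : Subgroup G) : Set G))
    {B : Subgroup G} (hB : IsElementaryAbelian 2 B) (hBS : B ≤ (S : Subgroup G)) (h8 : 8 ≤ Nat.card B)
    {t : G} (ht : t ∈ B) (ht1 : t ≠ 1) :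
    centralizer ({t} : Set G) ≤ normalizer (clos E : Set G) := by
  haveI : Fact (Nat.Prime 2) := ⟨Nat.prime_two⟩
  set C := centralizer ({t} : Set G) with hC
  have hBC : B ≤ C := fun y hy => mem_centralizer_singleton_iff.2 (elementary_commute hB hy ht).eq
  obtain ⟨R, hR⟩ := (S.isPGroup'.to_le hBS |>.comap_subtype : IsPGroup 2 ↥(B.subgroupOf C)).exists_le_sylow
  obtain ⟨c, hc⟩ := Invol.exists_conj_mem_sylow S (R.isPGroup'.map C.subtype)
  have hcB : ∀ y ∈ B, c * y * c⁻¹ ∈ (S : Subgroup G) := fun y hy =>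
    hc y ⟨⟨y, hBC hy⟩, hR (mem_subgroupOf.2 hy), rfl⟩
  have hcN := b.mem_normalizer_of_conj_le hB hBS h8 hcB
  have hC' : C.map (MulAut.conj c).toMonoidHom = centralizer ({c * t * c⁻¹} : Set G) := by
    ext x
    simp only [mem_map, hC, mem_centralizer_singleton_iff, MulEquiv.coe_toMonoidHom, MulAut.conj_apply]
    constructor
    · rintro ⟨y, hy, rfl⟩
      calc c * y * c⁻¹ * (c * t * c⁻¹) = c * (y * t) * c⁻¹ := by group
        _ = _ := by rw [hy]; group
    · intro hx
      refine ⟨c⁻¹ * x * c, ?_, by group⟩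
      calc c⁻¹ * x * c * t = c⁻¹ * (x * (c * t * c⁻¹)) * c := by group
        _ = _ := by rw [hx]; group
  have h := b.centralizer_le_of_sylow hZ (B := B.map (MulAut.conj c).toMonoidHom) (elementary_map hB c)
    (by rintro _ ⟨y, hy, rfl⟩; exact hcB y hy) (by rwa [card_map_of_injective (MulAut.conj c).injective])
    (t := c * t * c⁻¹) ⟨t, ht, rfl⟩ (fun e => ht1 (conj_eq_one_iff.1 e)) (by
      rw [← hC']
      intro h2
      refine R.not_dvd_index ?_
      have hle : ((R : Subgroup ↥C).map C.subtype).map (MulAut.conj c).toMonoidHom ≤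
          (S : Subgroup G) ⊓ C.map (MulAut.conj c).toMonoidHom := by
        refine le_inf ?_ (map_mono (map_subtype_le _))
        rintro _ ⟨y, hy, rfl⟩
        exact hc y hy
      refine h2.trans ?_
      refine (relIndex_dvd_of_le_left _ hle).trans (dvd_of_eq ?_)
      rw [relIndex_map_map_of_injective _ _ (MulAut.conj c).injective]
      rw [relIndex, subgroupOf, comap_map_eq_self_of_injective C.subtype_injective])
  intro x hx
  have hx' := h (hC'.le (mem_map_of_mem _ hx))
  have := mul_mem (mul_mem (inv_mem hcN) hx') hcN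
  simpa [mul_assoc] using this

end Base

end Cfsg.Lib.Local.ZN
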