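import Cfsg.Agent.Lib.Local.ZN.Reduction
import Cfsg.Agent.S0518

/-!
# Groups with solvable 2-locals and `C(Ω₁Z(S)) ≤ N(S)`: the structure of a Sylow 2-subgroup of `O²(G)`
-/

set_option autoImplicit false
set_option linter.style.haveILetI false

namespace Cfsg.Lib.Local.ZN

open Subgroup Cfsg Cfsg.Lib

universe u

/-- The nontrivial regular involutions of `S₄`, and the identity. -/
def SFourRegular (a : Equiv.Perm (Fin 4)) : Prop := a * a = 1 ∧ (a = 1 ∨ ∀ i, a i ≠ i)

instance : DecidablePred SFourRegular := fun _ => inferInstanceAs (Decidable (_ ∧ _))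

theorem sfour_regular_mul : ∀ a b, SFourRegular a → SFourRegular b → SFourRegular (a * b) := by decide +kernel

theorem sfour_regular_inv : ∀ a, SFourRegular a → SFourRegular a⁻¹ := by decide +kernel

theorem sfour_regular_comm : ∀ a b, SFourRegular a → SFourRegular b → a * b = b * a := by decide +kernel

theorem sfour_regular_conj : ∀ a c, SFourRegular a → SFourRegular (c * a * c⁻¹) := by decide +kernel

theorem sfour_regular_self : ∀ c : Equiv.Perm (Fin 4), (∀ a, SFourRegular a → a * c = c * a) → SFourRegular c := by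
  decide +kernel

theorem sfour_regular_card : (Finset.univ.filter fun a => SFourRegular a).card = 4 := by decide +kernel

/-- The four group normal in `S₄`. -/
def sfourV : Subgroup (Equiv.Perm (Fin 4)) where
  carrier := {a | SFourRegular a}
  mul_mem' ha hb := sfour_regular_mul _ _ ha hb
  one_mem' := ⟨mul_one _, Or.inl rfl⟩
  inv_mem' ha := sfour_regular_inv _ ha

theorem card_sfourV : Nat.card ↥sfourV = 4 := by
  classical
  refine Eq.trans ?_ sfour_regular_card
  rw [← Fintype.card_subtype, ← Nat.card_eq_fintype_card]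
  rfl

variable {X : Type u} [Group X] [Finite X]

/-- A maximal 2-local subgroup isomorphic to `S₄` yields a self-centralizing four group. -/
theorem self_centralizing_four {M : Subgroup X} (hM : IsMaximalTwoLocal M)
    (e : M ≃* Equiv.Perm (Fin 4)) :
    ∃ V : Subgroup X, IsElementaryAbelian 2 V ∧ Nat.card V = 4 ∧ centralizer (V : Set X) ≤ V := by
  set f : Equiv.Perm (Fin 4) →* X := M.subtype.comp e.symm.toMonoidHom with hf
  have hinj : Function.Injective f := M.subtype_injective.comp e.symm.injective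
  set V := sfourV.map f with hV
  have hVe : IsElementaryAbelian 2 V := ⟨⟨⟨by
      rintro ⟨_, a, ha, rfl⟩ ⟨_, b, hb, rfl⟩
      exact Subtype.ext (by
        show f a * f b = f b * f a
        rw [← map_mul, ← map_mul, sfour_regular_comm a b ha hb])⟩⟩, by
      rintro _ ⟨a, ha, rfl⟩
      rw [← map_pow, pow_two, (show SFourRegular a from ha).1, map_one]⟩
  have hc : Nat.card V = 4 := by rw [hV, card_map_of_injective hinj, card_sfourV]
  have hMV : M ≤ normalizer (V : Set X) := fun x hx => mem_normalizer_fintype fun y hy => by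
    obtain ⟨a, ha, rfl⟩ := hy
    have hfx : f (e ⟨x, hx⟩) = x := congrArg Subtype.val (e.symm_apply_apply ⟨x, hx⟩)
    exact ⟨e ⟨x, hx⟩ * a * (e ⟨x, hx⟩)⁻¹, sfour_regular_conj a _ ha, by
      rw [map_mul, map_mul, map_inv, hfx]⟩
  have hVp : IsPGroup 2 V := IsPGroup.of_card (n := 2) (by rw [hc]; norm_num)
  have hN : normalizer (V : Set X) = M := hM.2 _ ⟨V, hVp, fun h => by rw [h, card_bot] at hc; norm_num at hc, rfl⟩ hMV
  refine ⟨V, hVe, hc, fun x hx => ?_⟩
  have hxM : x ∈ M := hN ▸ centralizer_le_normalizer _ hx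
  have hfx : f (e ⟨x, hxM⟩) = x := congrArg Subtype.val (e.symm_apply_apply ⟨x, hxM⟩)
  refine ⟨e ⟨x, hxM⟩, sfour_regular_self _ fun a ha => hinj ?_, hfx⟩
  rw [map_mul, map_mul, hfx]
  exact mem_centralizer_iff.1 hx _ (mem_map_of_mem f ha)

/-- The conclusion on the Sylow 2-subgroup. -/
abbrev DihedralLike (R : Type*) [Group R] : Prop :=
  (∃ n : ℕ, 2 ≤ n ∧ Nonempty (R ≃* DihedralGroup n)) ∨ IsQuasiDihedral R

theorem DihedralLike.of_equiv {R : Type*} [Group R] {R' : Type*} [Group R'] (e : R ≃* R')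
    (h : DihedralLike R) : DihedralLike R' := by
  rcases h with ⟨n, hn, ⟨φ⟩⟩ | ⟨n, hn, hc, x, y, hx, hy, hxy⟩
  · exact Or.inl ⟨n, hn, ⟨e.symm.trans φ⟩⟩
  · exact Or.inr ⟨n, hn, by rw [← Nat.card_congr e.toEquiv, hc], e x, e y, by rw [e.orderOf_eq, hx],
      by rw [e.orderOf_eq, hy], by rw [← map_inv, ← map_mul, ← map_mul, hxy, map_pow]⟩

/-- A Sylow subgroup containing a self-centralizing four group is dihedral or quasidihedral. -/
theorem dihedralLike_of_four (P : Sylow 2 X) {V : Subgroup X} (hV : IsElementaryAbelian 2 V)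
    (h4 : Nat.card V = 4) (hCV : centralizer (V : Set X) ≤ V) (hVP : V ≤ (P : Subgroup X)) :
    DihedralLike ↥(P : Subgroup X) := by
  haveI : Fact (Nat.Prime 2) := ⟨Nat.prime_two⟩
  obtain ⟨z, hzP, hz2, hPz⟩ := exists_central_involution P.isPGroup'
    (fun h => by rw [h, le_bot_iff] at hVP; rw [hVP, card_bot] at h4; norm_num at h4)
  have hzV : z ∈ V := hCV (mem_centralizer_iff.2 fun v hv => (mem_centralizer_singleton_iff.1 (hPz (hVP hv))))
  obtain ⟨w, hwV, hwz⟩ : ∃ w ∈ V, w ∉ zpowers z := by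
    by_contra hall
    push Not at hall
    have := card_le_of_le (fun v hv => hall v hv : V ≤ zpowers z)
    rw [Nat.card_zpowers, hz2, h4] at this
    norm_num at this
  have hw1 : w ≠ 1 := fun h => hwz (h ▸ one_mem _)
  have hzw : z ≠ w := fun h => hwz (h ▸ mem_zpowers z)
  have hzw1 : z * w ≠ 1 := fun h => hzw (by rw [← inv_eq_of_mul_eq_one_right h, Invol.inv_eq_self hz2])
  have hz1 := Invol.ne_one hz2
  have hV4 : ∀ v ∈ V, v = 1 ∨ v = z ∨ v = w ∨ v = z * w := fun v hv =>
    four_cases h4 hzV hwV (mul_mem hzV hwV) hv hzw (fun h => hw1 (left_eq_mul.1 h))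
      (fun h => hz1 (right_eq_mul.1 h)) hz1 hw1 hzw1
  -- the centralizer of `w` in `P` centralizes `V`
  have hC : ∀ c ∈ (P : Subgroup X), w * c = c * w → c ∈ V := fun c hc hcw => hCV (mem_centralizer_iff.2 fun v hv => by
    have hcz : z * c = c * z := (mem_centralizer_singleton_iff.1 (hPz hc)).symm
    rcases hV4 v hv with rfl | rfl | rfl | rfl
    · simp
    · exact hcz
    · exact hcw
    · rw [mul_assoc, hcw, ← mul_assoc, hcz, mul_assoc])
  by_cases hwc : ∀ c ∈ (P : Subgroup X), w * c = c * w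
  · have hPV : (P : Subgroup X) = V := le_antisymm (fun c hc => hC c hc (hwc c hc)) hVP
    refine Or.inl ⟨2, le_rfl, ?_⟩
    haveI : IsKleinFour ↥(P : Subgroup X) := by
      rw [hPV]
      refine ⟨h4, Nat.dvd_prime Nat.prime_two |>.1 ?_ |>.resolve_left ?_⟩
      · exact Monoid.exponent_dvd_of_forall_pow_eq_one fun v => Subtype.ext (hV.2 v v.2)
      · intro h1
        have : Subsingleton ↥V := Monoid.exp_eq_one_iff.1 h1
        have := Nat.card_of_subsingleton (1 : ↥V)
        omega
    exact IsKleinFour.nonempty_mulEquiv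
  push Not at hwc
  obtain ⟨c, hc, hcw⟩ := hwc
  refine RankTwoFusion.dihedral_or_quasiDihedral P.isPGroup' (w := ⟨w, hVP hwV⟩) (z := ⟨z, hzP⟩)
    (Subtype.ext (by rw [Submonoid.coe_mul, ← pow_two]; exact hV.2 w hwV)) (fun h => hw1 (congrArg Subtype.val h))
    (Subtype.ext (Invol.inv_mul_self hz2)) (fun h => hz1 (congrArg Subtype.val h))
    (fun h => hzw (congrArg Subtype.val h)) (fun x => Subtype.ext (mem_centralizer_singleton_iff.1 (hPz x.2)).symm)
    ⟨⟨c, hc⟩, fun h => hcw (congrArg Subtype.val h)⟩ fun d hd => ?_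
  rcases hV4 d (hC d d.2 (congrArg Subtype.val hd)) with h | h | h | h
  · exact Or.inl (Subtype.ext h)
  · exact Or.inr (Or.inr (Or.inl (Subtype.ext h)))
  · exact Or.inr (Or.inl (Subtype.ext h))
  · exact Or.inr (Or.inr (Or.inr (Subtype.ext h)))

variable {G : Type u} [Group G] [Finite G]

/-- The structure theorem in the case of characteristic two type. -/
theorem structure_charTwo {S : Sylow 2 G} (c : Setting S)
    (hN : ∀ L : Subgroup G, IsTwoLocal L → Group.IsSolvable ↥L)
    (hZ : ∀ Q : Sylow 2 G, centralizer (zee Q : Set G) ≤ normalizer ((Q : Subgroup G) : Set G))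
    (hd : IsCharacteristicTwoType ↥(pResidual 2 G ⊔ zee S)) :
    (∃ M : Subgroup ↥(pResidual 2 G), IsStronglyEmbedded M) ∨
      DihedralLike ↥((S : Subgroup G) ⊓ pResidual 2 G) := by
  haveI : Fact (Nat.Prime 2) := ⟨Nat.prime_two⟩
  haveI := Fusion.pResidual_normal 2 G
  set L := pResidual 2 G ⊔ zee S with hL
  haveI hLn : L.Normal := by
    refine normalizer_eq_top_iff.1 (top_le_iff.1 ?_)
    rw [← Fusion.sylow_sup_pResidual S]
    refine sup_le (fun s hs => mem_normalizer_fintype fun x hx => ?_) (le_sup_left.trans le_normalizer)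
    obtain ⟨a, ha, b, hb, rfl⟩ := mem_sup_of_normal_left.1 hx
    refine mem_sup_of_normal_left.2 ⟨s * a * s⁻¹, (inferInstance : (pResidual 2 G).Normal).conj_mem _ ha s,
      b, hb, ?_⟩
    calc s * a * s⁻¹ * b = s * a * (s⁻¹ * b) := by group
      _ = s * a * (b * s⁻¹) := by rw [((zee_commute hb (inv_mem hs)).eq).symm]
      _ = _ := by group
  have hO : pCore 2 ↥L = ⊥ := by
    have h := Core.le_pCore' (Core.normal_map_char_of_normal (pCore 2 ↥L)) ((Core.pCore_isPGroup 2 ↥L).map L.subtype)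
    rw [c.two, le_bot_iff] at h
    exact (map_eq_bot_iff_of_injective _ L.subtype_injective).1 h
  have hNL : ∀ N : Subgroup ↥L, IsTwoLocal N → Group.IsSolvable ↥N := by
    rintro N ⟨T, hT, hT1, rfl⟩
    haveI := hN _ ⟨T.map L.subtype, hT.map _, fun h => hT1 ((map_eq_bot_iff_of_injective _ L.subtype_injective).1 h), rfl⟩
    exact Group.isSolvable_of_isSolvable_injective
      (f := ((L.subtype).comp (normalizer (T : Set ↥L)).subtype).codRestrict
        (normalizer ((T.map L.subtype : Subgroup G) : Set G)) fun x => le_normalizer_map L.subtype (mem_map_of_mem _ x.2))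
      fun a b e => Subtype.ext (Subtype.ext
        (congrArg (fun w : ↥(normalizer ((T.map L.subtype : Subgroup G) : Set G)) => (w : G)) e))
  have hZL : ∀ P : Sylow 2 ↥L,
      centralizer {z : ↥L | z ∈ (P : Subgroup ↥L) ∧ z ^ 2 = 1 ∧ ∀ s ∈ (P : Subgroup ↥L), s * z = z * s} ≤
        normalizer ((P : Subgroup ↥L) : Set ↥L) := by
    intro P x hx
    obtain ⟨Q, hQ⟩ := (P.isPGroup'.map L.subtype).exists_le_sylow
    have hPQ : (Q : Subgroup G).subgroupOf L = (P : Subgroup ↥L) :=
      P.is_maximal' Q.isPGroup'.comap_subtype fun y hy => mem_subgroupOf.2 (hQ (mem_map_of_mem _ hy))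
    obtain ⟨g, hg⟩ := MulAction.exists_smul_eq G S Q
    have hgQ : ∀ y, y ∈ (S : Subgroup G) → g * y * g⁻¹ ∈ (Q : Subgroup G) := fun y hy => by
      rw [← hg]
      exact smul_mem_pointwise_smul y (MulAut.conj g) (S : Subgroup G) hy
    have hzL : zee Q ≤ L := fun w hw => by
      have hwS : g⁻¹ * w * g ∈ (S : Subgroup G) := by
        have h' : w ∈ ((g • S : Sylow 2 G) : Subgroup G) := by rw [hg]; exact zee_le Q hw
        obtain ⟨y, hy, rfl⟩ := h'
        show g⁻¹ * ((MulAut.conj g) • y) * g ∈ (S : Subgroup G)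
        rw [show g⁻¹ * ((MulAut.conj g) • y) * g = y by simp [mul_assoc]]
        exact hy
      have hz' : g⁻¹ * w * g ∈ zee S := mem_zee hwS
        (by rw [show g⁻¹ * w * g * (g⁻¹ * w * g) = g⁻¹ * (w * w) * g by group, zee_sq hw]; group)
        fun y hy => by
          calc y * (g⁻¹ * w * g) = g⁻¹ * ((g * y * g⁻¹) * w) * g := by group
            _ = g⁻¹ * (w * (g * y * g⁻¹)) * g := by rw [(zee_commute hw (hgQ y hy)).eq]
            _ = _ := by group
      have := hLn.conj_mem _ (mem_sup_right hz' : g⁻¹ * w * g ∈ L) g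
      simpa [mul_assoc] using this
    have hxQ : (x : G) ∈ normalizer ((Q : Subgroup G) : Set G) := hZ Q (mem_centralizer_iff.2 fun w hw => by
      refine congrArg Subtype.val (mem_centralizer_iff.1 hx ⟨w, hzL hw⟩ ⟨?_, ?_, fun s hs => ?_⟩)
      · rw [← hPQ]
        exact mem_subgroupOf.2 (zee_le Q hw)
      · exact Subtype.ext (by rw [SubgroupClass.coe_pow, pow_two]; exact zee_sq hw)
      · rw [← hPQ] at hs
        exact Subtype.ext (zee_commute hw (mem_subgroupOf.1 hs)).eq.symm)
    refine mem_normalizer_fintype fun y hy => ?_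
    rw [← hPQ] at hy ⊢
    exact mem_subgroupOf.2 ((mem_normalizer_iff.1 hxQ y).1 (mem_subgroupOf.1 hy))
  set HL := Subgroup.closure {g : ↥L | Odd (orderOf g)} with hHL
  have hmap : HL.map L.subtype = pResidual 2 G := by
    rw [hHL, MonoidHom.map_closure]
    refine le_antisymm ((closure_le _).2 ?_) ((closure_le _).2 fun g hg => ?_)
    · rintro _ ⟨g, hg, rfl⟩
      exact Fusion.mem_pResidual_of_coprime (Nat.coprime_two_right.2 (by simpa using hg))
    · exact subset_closure ⟨⟨g, mem_sup_left (Fusion.mem_pResidual_of_coprime hg)⟩,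
        show Odd (orderOf (⟨g, _⟩ : ↥L)) by rw [orderOf_mk]; exact Nat.coprime_two_right.1 hg, rfl⟩
  rcases Cfsg.Agent.S0518.result hd hO hNL hZL HL rfl with ⟨K, hK⟩ | ⟨M₁, -, -, hM₁, -, ⟨e₁⟩, -, -⟩
  · obtain ⟨z, -, hzH, hz2⟩ := c.exists_z
    obtain ⟨t, ht, ht2⟩ := Invol.exists_involution_of_even hK.2.1
    set H := pResidual 2 G with hH
    set K' := (K.map L.subtype).subgroupOf H with hK'
    have htH : (t : G) ∈ H := by
      obtain ⟨g, hg⟩ := isConj_iff.1 (Invol.se_isConj hK
        (show orderOf (⟨z, mem_sup_left hzH⟩ : ↥L) = 2 by rw [orderOf_mk]; exact hz2) ht2)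
      rw [← hg]
      exact (inferInstance : H.Normal).conj_mem z hzH (g : G)
    have hne : K' ≠ ⊤ := by
      rw [hK', ne_eq, subgroupOf_eq_top]
      intro hle
      obtain ⟨v, hv, -⟩ := Invol.se_exists_outside hK
      refine hv (Invol.se_mem hK ht ht2 ?_)
      obtain ⟨y, hy, e⟩ := hle ((inferInstance : H.Normal).conj_mem (t : G) htH (v : G))
      rwa [show v * t * v⁻¹ = y from L.subtype_injective e.symm]
    have heven : Even (Nat.card ↥K') := by
      rw [even_iff_two_dvd, ← ht2, ← orderOf_coe t]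
      have hmem : (⟨(t : G), htH⟩ : ↥H) ∈ K' := mem_subgroupOf.2 (mem_map_of_mem _ ht)
      have := orderOf_dvd_natCard (⟨_, hmem⟩ : ↥K')
      rwa [orderOf_mk, orderOf_mk] at this
    refine Or.inl ⟨K', (Invol.stronglyEmbedded_iff hne heven).2 fun s hs hs2 g hg => ?_⟩
    obtain ⟨s', hs', es⟩ := mem_subgroupOf.1 hs
    obtain ⟨r, hr, er⟩ := mem_subgroupOf.1 hg
    refine mem_subgroupOf.2 ⟨⟨(g : G), mem_sup_left g.2⟩, Invol.se_mem hK hs' ?_ ?_, rfl⟩
    · rw [← orderOf_coe, show (s' : G) = s from es, orderOf_coe]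
      exact hs2
    · have : (⟨(g : G), mem_sup_left g.2⟩ : ↥L) * s' * ⟨(g : G), mem_sup_left g.2⟩⁻¹ = r := by
        refine L.subtype_injective (Eq.trans ?_ er.symm)
        show (g : G) * (s' : G) * (g : G)⁻¹ = ((g * s * g⁻¹ : ↥H) : G)
        rw [show (s' : G) = s from es]
        rfl
      rw [this]
      exact hr
  · right
    obtain ⟨V, hV, h4, hCV⟩ := self_centralizing_four hM₁ e₁
    obtain ⟨P, hP⟩ := (IsPGroup.of_card (n := 2) (by rw [h4]; norm_num) : IsPGroup 2 ↥V).exists_le_sylow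
    set R := (S : Subgroup G) ⊓ pResidual 2 G with hR
    set φ : ↥HL →* G := L.subtype.comp HL.subtype with hφ
    have hφi : Function.Injective φ := L.subtype_injective.comp HL.subtype_injective
    have hφr : φ.range = pResidual 2 G := by rw [hφ, MonoidHom.range_comp, range_subtype, hmap]
    have hidx : ¬ 2 ∣ (R.comap φ).index := by
      rw [index_comap, hφr]
      exact Setting.inf_relIndex
    have hp : IsPGroup 2 ↥(R.comap φ) :=
      (S.isPGroup'.to_le inf_le_left).comap_of_injective φ hφi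
    refine DihedralLike.of_equiv ((Sylow.equiv P (hp.toSylow hidx)).trans
      ((equivMapOfInjective (R.comap φ) φ hφi).trans (MulEquiv.subgroupCongr ?_))) (dihedralLike_of_four P hV h4 hCV hP)
    rw [map_comap_eq, hφr]
    exact inf_eq_right.2 inf_le_right

end Cfsg.Lib.Local.ZN
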